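import Cfsg.Agent.Lib.Fischer3T.M22TrialityEmbedded

/-!
# Automorphisms of a group of type M(22) as permutations of the 3510 points

An automorphism permutes the members, and it is determined by the images of the nine points of the generators.
A permutation of the points that conjugates the nine generating permutations into members is an automorphism.
-/

set_option autoImplicit false

namespace Cfsg.Agent.Lib.M22Outer

open Cfsg Cfsg.Agent.Lib.CosetTable Cfsg.Agent.Lib.Fischer3T.Triality

/-- The points. -/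
abbrev Pt : Type := Fin Fi22a.tab.n

theorem n_eq : Fi22a.tab.n = 3510 := by decide +kernel

/-- A point from a number. -/
noncomputable def toPt (i : ℕ) : Pt :=
  ⟨i % Fi22a.tab.n, Nat.mod_lt _ (by rw [n_eq]; norm_num)⟩

theorem toPt_val {i : ℕ} (h : i < 3510) : ((toPt i : Pt) : ℕ) = i := by
  show i % Fi22a.tab.n = i
  exact Nat.mod_eq_of_lt (by rw [n_eq]; exact h)

theorem toPt_self (i : Pt) : toPt (i : ℕ) = i := Fin.ext (Nat.mod_eq_of_lt i.isLt)

/-- The point of a generator. -/
noncomputable def gpt (k : ℕ) : Pt := toPt (pt (Data.genPath.getD k []))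

theorem gpt_ok : ((List.range 9).all fun k => wOK (Data.genPath.getD k []) &&
    Nat.blt (pt (Data.genPath.getD k [])) 3510) = true := by decide +kernel

theorem genPath_wok {k : ℕ} (hk : k < 9) : wOK (Data.genPath.getD k []) = true := by
  have h := List.all_eq_true.1 gpt_ok k (List.mem_range.2 hk)
  rw [Bool.and_eq_true] at h
  exact h.1

theorem gpt_val {k : ℕ} (hk : k < 9) : ((gpt k : Pt) : ℕ) = pt (Data.genPath.getD k []) := by
  have h := List.all_eq_true.1 gpt_ok k (List.mem_range.2 hk)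
  rw [Bool.and_eq_true, Nat.blt_eq] at h
  exact toPt_val h.2

variable {G : Type*} [Group G]

/-- The presented group carried onto `G`, with what is needed about the members. -/
structure Setup (D : Set G) where
  /-- the isomorphism -/
  e : Cfsg.Spor.Fi22 ≃* G
  zero_mem : e (Cfsg.Agent.S1696.gn 0) ∈ D
  conj_mem : ∀ g : G, ∀ d ∈ D, g * d * g⁻¹ ∈ D
  trans : ∀ d ∈ D, ∀ d' ∈ D, ∃ g : G, g * d * g⁻¹ = d'
  ncard : D.ncard = 3510
  aut_mem : ∀ t : MulAut G, ∀ d ∈ D, t d ∈ D

variable {D : Set G} (S : Setup D)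
include S

/-- The nine generators. -/
noncomputable def Setup.f (k : ℕ) : G := S.e (Cfsg.Agent.S1696.gn k)

/-- The action on the points. -/
noncomputable def Setup.π : G →* Equiv.Perm Pt :=
  Compute.Big.Fi22.phi.comp S.e.symm.toMonoidHom

theorem Setup.π_injective : Function.Injective S.π :=
  Compute.Big.Fi22.phi_injective.comp S.e.symm.injective

theorem Setup.π_eval {w : List ℕ} (hw : wOK w = true) (i : Pt) :
    ((S.π (eval S.f w) i : Pt) : ℕ) = Fi22a.tab.walk w i := by
  have : eval S.f w = S.e (eval Cfsg.Agent.S1696.gn w) := map_eval S.e _ w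
  rw [this]
  show ((Compute.Big.Fi22.phi (S.e.symm (S.e _)) i : Pt) : ℕ) = _
  rw [S.e.symm_apply_apply]
  exact phi_eval hw i

theorem Setup.π_f {k : ℕ} (hk : k < 9) (i : Pt) : ((S.π (S.f k) i : Pt) : ℕ) = Fi22a.tab.act k i := by
  have h := S.π_eval (w := [k]) (by simp [wOK, hk]) i
  simp only [eval, one_mul] at h
  rw [h]
  show force (Fi22a.tab.act k i) (Fi22a.tab.walk []) = _
  rw [force_eq]
  rfl

theorem Setup.gen : Subgroup.closure {x | ∃ k < 9, S.f k = x} = ⊤ := by
  have h := congrArg (Subgroup.map S.e.toMonoidHom) Cfsg.Agent.S1696.model_act.gen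
  rw [MonoidHom.map_closure, Subgroup.map_top_of_surjective _ S.e.surjective] at h
  rw [eq_top_iff, ← h]
  refine Subgroup.closure_mono ?_
  rintro _ ⟨x, ⟨g, hg, rfl⟩, rfl⟩
  exact ⟨g, lt_of_lt_of_eq hg (by decide +kernel), rfl⟩

theorem Setup.eval_mw {p : List ℕ} (hp : wOK p = true) :
    eval S.f (mw p) = eval S.f p * S.f 0 * (eval S.f p)⁻¹ := by
  show eval (fun k => S.e _) _ = _
  rw [map_eval, Fischer3T.Triality.eval_mw hp, map_mul, map_mul, map_inv, ← map_eval, Setup.f]
  rfl

theorem Setup.conj_eval {w p p' : List ℕ} (hw : wOK w = true) (hp : wOK p = true) (hp' : wOK p' = true)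
    (h : Fi22a.tab.walk w (pt p) = pt p') :
    eval S.f w * eval S.f (mw p) * (eval S.f w)⁻¹ = eval S.f (mw p') := by
  show eval (fun k => S.e _) _ * eval (fun k => S.e _) _ * (eval (fun k => S.e _) _)⁻¹ = eval (fun k => S.e _) _
  rw [map_eval, map_eval, map_eval, ← map_inv, ← map_mul, ← map_mul, conj_spor hw hp hp' h]

theorem Setup.model : Model D S.f where
  zero_mem := S.zero_mem
  eval_mw := S.eval_mw
  conj := S.conj_eval
  eq_iff := fun {v w} hv hw => by
    show eval (fun k => S.e _) _ = eval (fun k => S.e _) _ ↔ _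
    rw [map_eval, map_eval, S.e.injective.eq_iff]
    exact ⟨sig_of_eval_eq hv hw, eval_eq_of_sig hv hw⟩

theorem Setup.exists_word (g : G) : ∃ w, wOK w = true ∧ eval S.f w = g := by
  have hg : g ∈ Subgroup.closure {x | ∃ k < 9, S.f k = x} := S.gen ▸ Subgroup.mem_top g
  induction hg using Subgroup.closure_induction with
  | mem x hx => obtain ⟨k, hk, rfl⟩ := hx; exact ⟨[k], by simp [wOK, hk], by simp [eval]⟩
  | one => exact ⟨[], rfl, rfl⟩
  | mul x y _ _ hx hy =>
    obtain ⟨v, hv, rfl⟩ := hx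
    obtain ⟨w, hw, rfl⟩ := hy
    exact ⟨w ++ v, wOK_append hw hv, eval_append _ _ _⟩
  | inv x _ hx =>
    obtain ⟨v, hv, rfl⟩ := hx
    refine ⟨v.reverse, by rwa [wOK, List.all_reverse], ?_⟩
    show eval (fun k => S.e _) _ = (eval (fun k => S.e _) _)⁻¹
    rw [map_eval, map_eval, eval_rev hv, map_inv]

theorem Setup.exists_path (i : Pt) : ∃ p, wOK p = true ∧ pt p = (i : ℕ) := by
  obtain ⟨x, hx⟩ := K.exists_map_zero (φ := Compute.Big.Fi22.phi) Compute.Big.Fi22.phi_spec i
  obtain ⟨w, hw, he⟩ := S.exists_word (S.e x)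
  refine ⟨w, hw, ?_⟩
  have h := S.π_eval hw ⟨0, K.pos⟩
  rw [he] at h
  show Fi22a.tab.walk w 0 = _
  rw [← h]
  show ((Compute.Big.Fi22.phi (S.e.symm (S.e x)) ⟨0, K.pos⟩ : Pt) : ℕ) = _
  rw [S.e.symm_apply_apply, hx]

/-- A path to each point. -/
noncomputable def Setup.path (i : Pt) : List ℕ := (S.exists_path i).choose

theorem Setup.path_ok (i : Pt) : wOK (S.path i) = true := (S.exists_path i).choose_spec.1

theorem Setup.pt_path (i : Pt) : pt (S.path i) = (i : ℕ) := (S.exists_path i).choose_spec.2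

/-- The member at a point. -/
noncomputable def Setup.mem (i : Pt) : G := el S.f (S.path i)

theorem Setup.el_eq {p : List ℕ} (hp : wOK p = true) {i : Pt} (h : pt p = (i : ℕ)) : el S.f p = S.mem i := by
  have := S.conj_eval (w := []) rfl hp (S.path_ok i) (h.trans (S.pt_path i).symm)
  simpa [eval, el, Setup.mem] using this

theorem Setup.mem_zero : S.mem ⟨0, K.pos⟩ = S.f 0 := by
  rw [← S.el_eq (p := []) rfl rfl]
  simp [el, mw, eval]

theorem Setup.conj (g : G) (i : Pt) : g * S.mem i * g⁻¹ = S.mem (S.π g i) := by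
  obtain ⟨w, hw, rfl⟩ := S.exists_word g
  refine (S.conj_eval hw (S.path_ok i) (S.path_ok _) ?_)
  rw [S.pt_path, S.pt_path, S.π_eval hw]

theorem Setup.mem_mem (i : Pt) : S.mem i ∈ D := by
  have h := S.eval_mw (S.path_ok i)
  show eval S.f (mw _) ∈ D
  rw [h]
  exact S.conj_mem _ _ S.zero_mem

theorem Setup.bijective : Function.Bijective fun i : Pt => (⟨S.mem i, S.mem_mem i⟩ : D) := by
  have : Finite D := Set.finite_of_ncard_ne_zero (by rw [S.ncard]; norm_num) |>.to_subtype
  refine (Nat.bijective_iff_surjective_and_card _).2 ⟨?_, ?_⟩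
  · rintro ⟨d, hd⟩
    obtain ⟨g, hg⟩ := S.trans _ S.zero_mem d hd
    refine ⟨S.π g ⟨0, K.pos⟩, Subtype.ext ?_⟩
    show S.mem _ = d
    rw [← S.conj, S.mem_zero]
    exact hg
  · rw [Nat.card_fin, Nat.card_coe_set_eq, S.ncard, n_eq]

theorem Setup.mem_injective : Function.Injective S.mem := fun _ _ h =>
  S.bijective.injective (Subtype.ext h)

theorem Setup.exists_mem {d : G} (hd : d ∈ D) : ∃ i, S.mem i = d := by
  obtain ⟨i, hi⟩ := S.bijective.surjective ⟨d, hd⟩
  exact ⟨i, congrArg Subtype.val hi⟩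

/-- The points as members. -/
noncomputable def Setup.idx : Pt ≃ D := Equiv.ofBijective _ S.bijective

theorem Setup.commute_iff (i j : Pt) : Commute (S.mem i) (S.mem j) ↔ S.π (S.mem i) j = j := by
  constructor
  · intro h
    apply S.mem_injective
    rw [← S.conj, h.eq, mul_inv_cancel_right]
  · intro h
    have := S.conj (S.mem i) j
    rw [h] at this
    exact mul_inv_eq_iff_eq_mul.1 this

/-- An automorphism on the members. -/
noncomputable def Setup.autD (t : MulAut G) : Equiv.Perm D where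
  toFun d := ⟨t d, S.aut_mem t d d.2⟩
  invFun d := ⟨t⁻¹ (d : G), S.aut_mem _ d d.2⟩
  left_inv d := Subtype.ext (t.symm_apply_apply (d : G))
  right_inv d := Subtype.ext (t.apply_symm_apply (d : G))

/-- An automorphism on the points. -/
noncomputable def Setup.ψ : MulAut G →* Equiv.Perm Pt where
  toFun t := S.idx.trans ((S.autD t).trans S.idx.symm)
  map_one' := Equiv.ext fun i => S.idx.injective (by simp [Setup.autD])
  map_mul' t u := Equiv.ext fun i => S.idx.injective (by
    simp [Setup.autD, Equiv.Perm.mul_apply])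

theorem Setup.mem_ψ (t : MulAut G) (i : Pt) : t (S.mem i) = S.mem (S.ψ t i) := by
  have : S.idx (S.ψ t i) = S.autD t (S.idx i) := by simp [Setup.ψ]
  exact (congrArg Subtype.val this).symm

theorem Setup.ψ_eq_iff (t : MulAut G) (i j : Pt) : S.ψ t i = j ↔ t (S.mem i) = S.mem j := by
  rw [S.mem_ψ, S.mem_injective.eq_iff]

theorem Setup.ψ_conj (g : G) : S.ψ (MulAut.conj g) = S.π g :=
  Equiv.ext fun i => (S.ψ_eq_iff _ _ _).2 (S.conj g i)

theorem Setup.ψ_π (t : MulAut G) (g : G) : S.ψ t * S.π g = S.π (t g) * S.ψ t := by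
  refine Equiv.ext fun i => S.mem_injective ?_
  rw [Equiv.Perm.mul_apply, Equiv.Perm.mul_apply, ← S.mem_ψ, ← S.conj, ← S.conj, ← S.mem_ψ]
  simp

theorem Setup.mem_gpt {k : ℕ} (hk : k < 9) : S.mem (gpt k) = S.f k := by
  rw [← S.el_eq (genPath_wok hk) (gpt_val hk).symm]
  show eval (fun j => S.e _) _ = _
  rw [map_eval, ← gn_mw hk]
  rfl

/-- An automorphism is determined by the nine points. -/
theorem Setup.ext_base {t u : MulAut G} (h : ∀ k < 9, S.ψ t (gpt k) = S.ψ u (gpt k)) : t = u := by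
  have : (t : G ≃* G).toMonoidHom = (u : G ≃* G).toMonoidHom := by
    refine MonoidHom.eq_of_eqOn_dense S.gen ?_
    rintro _ ⟨k, hk, rfl⟩
    show t (S.f k) = u (S.f k)
    rw [← S.mem_gpt hk, S.mem_ψ, S.mem_ψ, h k hk]
  exact MulEquiv.ext fun g => DFunLike.congr_fun this g

theorem Setup.ψ_injective : Function.Injective S.ψ := fun _ _ h => S.ext_base fun k _ => by rw [h]

theorem Setup.center_eq_bot {z : G} (hz : ∀ i, Commute z (S.mem i)) : z = 1 :=
  S.π_injective (Equiv.ext fun i => S.mem_injective (by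
    rw [← S.conj, (hz i).eq, mul_inv_cancel_right]; simp))

/-- A permutation conjugating the generators into members is an automorphism. -/
theorem Setup.exists_aut (σ : Equiv.Perm Pt)
    (h : ∀ k < 9, σ * S.π (S.f k) = S.π (S.mem (σ (gpt k))) * σ) : ∃ t : MulAut G, S.ψ t = σ := by
  have : Finite G := Finite.of_injective _ S.π_injective
  have hr : ∀ g : G, ∃ g' : G, S.π g' = σ * S.π g * σ⁻¹ := by
    intro g
    have hg : g ∈ Subgroup.closure {x | ∃ k < 9, S.f k = x} := S.gen ▸ Subgroup.mem_top g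
    induction hg using Subgroup.closure_induction with
    | mem x hx => obtain ⟨k, hk, rfl⟩ := hx; exact ⟨S.mem (σ (gpt k)), by rw [h k hk, mul_inv_cancel_right]⟩
    | one => exact ⟨1, by simp⟩
    | mul x y _ _ hx hy =>
      obtain ⟨x', hx'⟩ := hx
      obtain ⟨y', hy'⟩ := hy
      exact ⟨x' * y', by rw [map_mul, hx', hy', map_mul]; group⟩
    | inv x _ hx =>
      obtain ⟨x', hx'⟩ := hx
      exact ⟨x'⁻¹, by rw [map_inv, hx', map_inv]; group⟩
  choose F hF using hr
  let θ : G →* G :=
    { toFun := F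
      map_one' := S.π_injective (by rw [hF]; simp)
      map_mul' := fun a b => S.π_injective (by rw [hF, map_mul S.π, map_mul S.π, hF, hF]; group) }
  have hθ : Function.Injective θ := fun a b hab => S.π_injective (by
    have := congrArg S.π hab
    simpa [θ, hF] using this)
  let t : MulAut G := MulEquiv.ofBijective θ (Finite.injective_iff_bijective.1 hθ)
  refine ⟨t, ?_⟩
  have key : ∀ g, σ * S.π g = S.π (t g) * σ := fun g => by
    show _ = S.π (F g) * σ
    rw [hF, inv_mul_cancel_right]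
  have h0 : S.ψ t (gpt 0) = σ (gpt 0) := by
    rw [S.ψ_eq_iff, S.mem_gpt (by norm_num)]
    refine S.π_injective (mul_right_cancel ((key _).symm.trans (h 0 (by norm_num))))
  refine Equiv.ext fun i => ?_
  obtain ⟨g, hg⟩ := S.trans _ (S.mem_mem (gpt 0)) _ (S.mem_mem i)
  rw [S.conj] at hg
  rw [← S.mem_injective hg]
  calc S.ψ t (S.π g (gpt 0)) = S.π (t g) (S.ψ t (gpt 0)) := Equiv.congr_fun (S.ψ_π t g) _
    _ = S.π (t g) (σ (gpt 0)) := by rw [h0]
    _ = σ (S.π g (gpt 0)) := (Equiv.congr_fun (key g) _).symm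

end Cfsg.Agent.Lib.M22Outer
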