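import Cfsg.Agent.Lib.M22Outer.Defs
import Cfsg.Agent.Lib.M22Outer.FixData
import Cfsg.Agent.Lib.OrthH1.E2

/-!
# Checks of the fixed members
-/

set_option autoImplicit false
set_option maxRecDepth 30000
set_option Elab.async false

namespace Cfsg.Agent.Lib.M22Outer

open Cfsg.Agent.Lib.CosetTable Cfsg.Agent.Lib.Fischer3T.Triality
open Cfsg.Agent.Lib.Compute

/-- The path of entry `i` of an orbit list. -/
def opath (l : List (List ℕ × ℕ × ℕ)) (i : ℕ) : List ℕ := (l.getD i ([], 0, 0)).1

/-- An orbit list under the members of `gs`. -/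
noncomputable def orbOK (gs : List (List ℕ)) (l : List (List ℕ × ℕ × ℕ)) : Bool :=
  Nat.blt 0 l.length && gs.all wOK && l.all (fun e => wOK e.1 && Nat.blt (pt e.1) 3510) &&
  (List.range l.length).all fun i => Nat.beq i 0 ||
    (Nat.blt (l.getD i ([], 0, 0)).2.1 i && Nat.blt (l.getD i ([], 0, 0)).2.2 gs.length &&
      Nat.beq (Fi22a.tab.walk (mw (gs.getD (l.getD i ([], 0, 0)).2.2 [])) (pt (opath l (l.getD i ([], 0, 0)).2.1)))
        (pt (opath l i)))

/-- The paths are exactly the points fixed by a representative. -/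
noncomputable def coverOK (c : ℕ) (l : List (List ℕ)) : Bool :=
  l.all (fun p => wOK p && Nat.blt (pt p) 3510 && Nat.beq (repI c (pt p)) (pt p)) &&
    (List.range 3510).all fun x => ! Nat.beq (repI c x) x || l.any fun p => Nat.beq (pt p) x

theorem orb0_ok : orbOK gens9 FixData.fix0 = true := by decide +kernel

theorem cover0_ok : coverOK 0 (FixData.fix0.map Prod.fst) = true := by decide +kernel

theorem gens9_fixed : (gens9.all fun p => wOK p && Nat.blt (pt p) 3510 && Nat.beq (sI (pt p)) (pt p)) = true := by
  decide +kernel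

theorem a_ok : Data.aPath = Data.aPath ∧ pt Data.aPath = pt (gp 0) ∧ pt (opath FixData.fix0 0) = pt Data.aPath ∧
    pt (FixData.fix1.getD 0 []) = pt Data.aPath ∧ pt (opath FixData.fix2 0) = pt Data.aPath ∧
    pt (opath FixData.orbB 0) = pt Data.bPath ∧ pt Data.aPath < 3510 ∧ pt Data.bPath < 3510 ∧
    sI (pt Data.aPath) = pt Data.aPath ∧ sI (pt Data.bPath) = pt Data.bPath ∧ pt Data.aPath ≠ pt Data.bPath ∧
    Fi22a.tab.walk (mw Data.aPath) (pt Data.bPath) = pt Data.bPath ∧
    (∃ x < 3510, sI x ≠ x) := by
  refine ⟨rfl, by decide +kernel, by decide +kernel, by decide +kernel, by decide +kernel, by decide +kernel,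
    by decide +kernel, by decide +kernel, by decide +kernel, by decide +kernel, by decide +kernel,
    by decide +kernel, ?_⟩
  exact List.any_eq_true.1 (show ((List.range 3510).any fun x => ! Nat.beq (sI x) x) = true by decide +kernel) |>.elim
    fun x hx => ⟨x, List.mem_range.1 hx.1, fun h => by simp [h] at hx⟩

theorem cover1_ok : coverOK 1 FixData.fix1 = true := by decide +kernel

theorem fix1_apex : ((List.range FixData.fix1.length).all fun i =>
    if i = 0 then FixData.fix1.all fun p => Nat.beq (Fi22a.tab.walk (mw Data.aPath) (pt p)) (pt p)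
    else FixData.fix1.any fun p => ! Nat.beq (Fi22a.tab.walk (mw (FixData.fix1.getD i [])) (pt p)) (pt p)) = true := by
  decide +kernel

theorem nbA_ok : (FixData.nbA.all (fun p => wOK p && Nat.blt (pt p) 3510 && Nat.beq (sI (pt p)) (pt p) &&
    Nat.beq (Fi22a.tab.walk (mw Data.aPath) (pt p)) (pt p) && ! Nat.beq (pt p) (pt Data.aPath))) = true := by
  decide +kernel

theorem orbB_ok : orbOK FixData.nbA FixData.orbB = true := by decide +kernel

theorem orbB_cover : ((List.range 3510).all fun x => ! Nat.beq (sI x) x ||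
    ! Nat.beq (Fi22a.tab.walk (mw Data.aPath) x) x || Nat.beq x (pt Data.aPath) ||
    FixData.orbB.any fun e => Nat.beq (pt e.1) x) = true := by decide +kernel

theorem orbB_inside : (FixData.orbB.all fun e => Nat.beq (sI (pt e.1)) (pt e.1) &&
    Nat.beq (Fi22a.tab.walk (mw Data.aPath) (pt e.1)) (pt e.1) && ! Nat.beq (pt e.1) (pt Data.aPath)) = true := by
  decide +kernel

theorem orb2_ok : orbOK FixData.hgen FixData.fix2 = true := by decide +kernel

theorem cover2_ok : coverOK 2 (FixData.fix2.map Prod.fst) = true := by decide +kernel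

theorem hgen_fixed : (FixData.hgen.all fun p => wOK p && Nat.blt (pt p) 3510 && Nat.beq (repI 2 (pt p)) (pt p)) =
    true := by decide +kernel

theorem orbit_lengths : FixData.fix0.length = 360 ∧ FixData.orbB.length = 63 ∧ FixData.fix2.length = 72 ∧
    (FixData.fix0.map fun e => pt e.1).Nodup ∧ (FixData.orbB.map fun e => pt e.1).Nodup ∧
    (FixData.fix2.map fun e => pt e.1).Nodup := by
  refine ⟨by decide +kernel, by decide +kernel, by decide +kernel, by decide +kernel, by decide +kernel,
    by decide +kernel⟩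

end Cfsg.Agent.Lib.M22Outer
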