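import Cfsg.Agent.Lib.M22Outer.Classes
import Cfsg.Agent.Lib.M22Outer.FixChecks

/-!
# The fixed subgroups of the three representatives
-/

set_option autoImplicit false

namespace Cfsg.Agent.Lib.M22Outer

open Cfsg Cfsg.Agent.Lib.CosetTable Cfsg.Agent.Lib.Fischer3T.Triality

/-- The point of the first member. -/
noncomputable def ptA : Pt := toPt (pt Data.aPath)

/-- The point of the second member. -/
noncomputable def ptB : Pt := toPt (pt Data.bPath)

variable {G : Type*} [Group G]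

/-- The elements fixed by an automorphism. -/
def fixOf (t : MulAut G) : Subgroup G := (t : G ≃* G).toMonoidHom.eqLocus (MonoidHom.id G)

theorem mem_fixOf {t : MulAut G} {g : G} : g ∈ fixOf t ↔ t g = g := Iff.rfl

variable {D : Set G} (S : Setup D)
include S

theorem Setup.el_mem_pt {p : List ℕ} (hp : wOK p = true) (h : pt p < 3510) : el S.f p = S.mem (toPt (pt p)) :=
  S.el_eq hp (toPt_val h).symm

theorem Setup.el_eq_pt' {p p' : List ℕ} (hp : wOK p = true) (hp' : wOK p' = true) (h : pt p = pt p') :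
    el S.f p = el S.f p' := by
  have := S.conj_eval (w := []) rfl hp hp' h
  simpa [eval, el] using this

theorem Setup.mem_fixOf_iff (t : MulAut G) (i : Pt) : S.mem i ∈ fixOf t ↔ S.ψ t i = i := by
  rw [mem_fixOf, S.ψ_eq_iff]

theorem Setup.π_fix {t : MulAut G} {g : G} (hg : g ∈ fixOf t) {i : Pt} (hi : S.ψ t i = i) :
    S.ψ t (S.π g i) = S.π g i := by
  have := Equiv.congr_fun (S.ψ_π t g) i
  rwa [Equiv.Perm.mul_apply, Equiv.Perm.mul_apply, hi, mem_fixOf.1 hg] at this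

theorem Setup.el_fix {c : ℕ} {p : List ℕ} (hp : wOK p = true) (hlt : pt p < 3510)
    (h : repI c (pt p) = pt p) : el S.f p ∈ fixOf (S.rep c) := by
  rw [S.el_mem_pt hp hlt, S.mem_fixOf_iff]
  exact Fin.ext (by rw [S.ψ_rep, toPt_val hlt, h])

theorem Setup.exists_orbit {gs : List (List ℕ)} {l : List (List ℕ × ℕ × ℕ)} (h : orbOK gs l = true)
    {H : Subgroup G} (hH : ∀ p ∈ gs, el S.f p ∈ H) :
    ∀ i < l.length, ∃ g ∈ H, S.π g (toPt (pt (opath l 0))) = toPt (pt (opath l i)) := by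
  simp only [orbOK, Bool.and_eq_true, List.all_eq_true, List.mem_range, Bool.or_eq_true, Nat.blt_eq] at h
  obtain ⟨⟨⟨-, hgs⟩, hl⟩, hpar⟩ := h
  intro i
  induction i using Nat.strongRecOn with
  | _ i IH =>
    intro hi
    rcases hpar i hi with h0 | h1
    · obtain rfl := Nat.eq_of_beq_eq_true h0
      exact ⟨1, one_mem _, by rw [map_one]; rfl⟩
    · obtain ⟨⟨hlt, hk⟩, he⟩ := h1
      set j := (l.getD i ([], 0, 0)).2.1
      set k := (l.getD i ([], 0, 0)).2.2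
      obtain ⟨g, hg, hgj⟩ := IH j hlt (hlt.trans hi)
      have hmem : gs.getD k [] ∈ gs := getD_mem_of_lt [] hk
      have hjl : ∀ x < l.length, wOK (opath l x) = true ∧ pt (opath l x) < 3510 := fun x hx =>
        hl _ (getD_mem_of_lt ([], 0, 0) hx)
      refine ⟨el S.f (gs.getD k []) * g, mul_mem (hH _ hmem) hg, Fin.ext ?_⟩
      rw [map_mul, Equiv.Perm.mul_apply, hgj, el, S.π_eval (wOK_mw (hgs _ hmem)), toPt_val (hjl j (hlt.trans hi)).2,
        Nat.eq_of_beq_eq_true he, toPt_val (hjl i hi).2]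

theorem Setup.cover {c : ℕ} {l : List (List ℕ)} (h : coverOK c l = true) (i : Pt) :
    S.ψ (S.rep c) i = i ↔ ∃ p ∈ l, pt p = (i : ℕ) := by
  simp only [coverOK, Bool.and_eq_true, List.all_eq_true, List.mem_range, Bool.or_eq_true, List.any_eq_true] at h
  constructor
  · intro hi
    rcases h.2 i (pt_lt i) with h' | ⟨p, hp, he⟩
    · rw [← S.ψ_rep, hi] at h'; simp at h'
    · exact ⟨p, hp, Nat.eq_of_beq_eq_true he⟩
  · rintro ⟨p, hp, he⟩
    refine Fin.ext ?_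
    rw [S.ψ_rep, ← he]
    exact Nat.eq_of_beq_eq_true (h.1 p hp).2

theorem Setup.mem_pa : S.mem ptA = S.a := by
  have h := paths_ab_ok
  rw [Bool.and_eq_true] at h
  exact (S.el_mem_pt h.1 a_ok.2.2.2.2.2.2.1).symm

theorem Setup.mem_pb : S.mem ptB = S.b := by
  have h := paths_ab_ok
  rw [Bool.and_eq_true] at h
  exact (S.el_mem_pt h.2 a_ok.2.2.2.2.2.2.2.1).symm

theorem Setup.a_mem : S.a ∈ D := S.mem_pa ▸ S.mem_mem _

theorem Setup.b_mem : S.b ∈ D := S.mem_pb ▸ S.mem_mem _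

theorem Setup.a_ne_b : S.a ≠ S.b := by
  rw [← S.mem_pa, ← S.mem_pb]
  intro h
  have := congrArg Fin.val (S.mem_injective h)
  rw [ptA, ptB, toPt_val a_ok.2.2.2.2.2.2.1, toPt_val a_ok.2.2.2.2.2.2.2.1] at this
  exact a_ok.2.2.2.2.2.2.2.2.2.2.1 this

theorem Setup.commute_ab : Commute S.a S.b := by
  have h := paths_ab_ok
  rw [Bool.and_eq_true] at h
  rw [← S.mem_pa, ← S.mem_pb, S.commute_iff, S.mem_pa]
  refine Fin.ext ?_
  rw [Setup.a, el, S.π_eval (wOK_mw h.1), ptB, toPt_val a_ok.2.2.2.2.2.2.2.1]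
  exact a_ok.2.2.2.2.2.2.2.2.2.2.2.1

theorem Setup.s_a : S.s S.a = S.a := by
  rw [← S.mem_pa, ← S.ψ_eq_iff]
  exact Fin.ext (by rw [S.ψ_s_val, ptA, toPt_val a_ok.2.2.2.2.2.2.1, a_ok.2.2.2.2.2.2.2.2.1])

theorem Setup.s_b : S.s S.b = S.b := by
  rw [← S.mem_pb, ← S.ψ_eq_iff]
  exact Fin.ext (by rw [S.ψ_s_val, ptB, toPt_val a_ok.2.2.2.2.2.2.2.1, a_ok.2.2.2.2.2.2.2.2.2.1])

theorem Setup.Ig_le_fix : Ig S.f ≤ fixOf S.s := by
  refine (Subgroup.closure_le _).2 ?_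
  rintro _ ⟨i, hi, rfl⟩
  have hlen : gens9.length = 9 := by decide +kernel
  have h := List.all_eq_true.1 gens9_fixed _ (getD_mem_of_lt [] (hlen.symm ▸ hi))
  simp only [Bool.and_eq_true, Nat.blt_eq] at h
  exact S.el_fix (c := 0) h.1.1 h.1.2 (Nat.eq_of_beq_eq_true h.2)

theorem Setup.exists_Ig_orbit {i : Pt} (hi : S.ψ S.s i = i) : ∃ g ∈ Ig S.f, S.π g ptA = i := by
  obtain ⟨p, hp, he⟩ := (S.cover (c := 0) cover0_ok i).1 hi
  obtain ⟨e, hel, rfl⟩ := List.mem_map.1 hp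
  obtain ⟨j, hj, rfl⟩ := List.getElem_of_mem hel
  obtain ⟨g, hg, hgi⟩ := S.exists_orbit orb0_ok (H := Ig S.f) (fun p hp => by
    obtain ⟨k, hk, rfl⟩ := List.getElem_of_mem hp
    have hlen : gens9.length = 9 := by decide +kernel
    exact Subgroup.subset_closure ⟨k, hlen ▸ hk, by rw [List.getD_eq_getElem _ _ hk]⟩) j hj
  refine ⟨g, hg, ?_⟩
  rw [a_ok.2.2.1] at hgi
  rw [ptA, hgi, opath, List.getD_eq_getElem _ _ hj, he, toPt_self]

theorem Setup.a_mem_Ig : S.a ∈ Ig S.f := by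
  refine Subgroup.subset_closure ⟨0, by norm_num, ?_⟩
  have h := paths_ab_ok
  rw [Bool.and_eq_true] at h
  rw [(gens9_getD (show 0 < 8 by norm_num)).1]
  exact S.el_eq_pt' (gp_wok (by norm_num)) h.1 a_ok.2.1.symm

end Cfsg.Agent.Lib.M22Outer
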