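import Cfsg.Agent.Lib.M22Outer.Defs

/-!
# The small checks of the certificate
-/

set_option autoImplicit false
set_option maxRecDepth 30000
set_option Elab.async false

namespace Cfsg.Agent.Lib.M22Outer

open Cfsg.Agent.Lib.CosetTable Cfsg.Agent.Lib.Fischer3T.Triality

theorem bpts_ok : bpts = Fischer3T.Triality.base := by decide +kernel

theorem sI_ok : ((List.range 3510).all fun x => Nat.blt (sI x) 3510 && Nat.beq (sI (sI x)) x) = true := by
  decide +kernel

theorem sGen_ok : ((List.range 9).all sGenOK) = true := by decide +kernel

theorem table_ok : ((List.range 17).all tableOK) = true := by decide +kernel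

theorem rel_ok : ((List.range 17).all relOK) = true := by decide +kernel

theorem sep_ok : ((List.range 17).all sepOK) = true := by decide +kernel

theorem paths_ab_ok : (wOK Data.aPath && wOK Data.bPath) = true := by decide +kernel

theorem fix_counts : ((List.range 3510).countP fun x => Nat.beq (repI 0 x) x) = 360 ∧
    ((List.range 3510).countP fun x => Nat.beq (repI 1 x) x) = 64 ∧
    ((List.range 3510).countP fun x => Nat.beq (repI 2 x) x) = 72 := by decide +kernel

end Cfsg.Agent.Lib.M22Outer
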