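import Cfsg.Agent.Lib.M22Outer.Defs

/-! The scan of the outer elements of the 2-group, part 3. -/

set_option autoImplicit false
set_option maxRecDepth 30000
set_option Elab.async false

namespace Cfsg.Agent.Lib.M22Outer

theorem scan_6 : scan 14 3 6 (ev 3 6 (sI 0)) = true := by decide +kernel

theorem scan_7 : scan 14 3 7 (ev 3 7 (sI 0)) = true := by decide +kernel

end Cfsg.Agent.Lib.M22Outer
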