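import Cfsg.Agent.Lib.M22Outer.TwoGroup
import Cfsg.Agent.Lib.M22Outer.Scan0
import Cfsg.Agent.Lib.M22Outer.Scan1
import Cfsg.Agent.Lib.M22Outer.Scan2
import Cfsg.Agent.Lib.M22Outer.Scan3

/-!
# Every outer involution is conjugate to one of three
-/

set_option autoImplicit false

namespace Cfsg.Agent.Lib.M22Outer

open Cfsg.Agent.Lib.CosetTable Cfsg.Agent.Lib.Fischer3T.Triality
open Cfsg.Agent.Lib.Compute

theorem bitAt_congr {k m m' : ℕ} (h : m % 2 ^ (k + 1) = m' % 2 ^ (k + 1)) : bitAt k m = bitAt k m' := by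
  have key : ∀ n : ℕ, n / 2 ^ k % 2 = n % 2 ^ (k + 1) / 2 ^ k := fun n => by
    rw [pow_succ, Nat.mod_mul_right_div_self]
  show Nat.beq (m / 2 ^ k % 2) 1 = Nat.beq (m' / 2 ^ k % 2) 1
  rw [key, key, h]

theorem ev_congr : ∀ {k m m' : ℕ}, m % 2 ^ k = m' % 2 ^ k → ∀ x, ev k m x = ev k m' x := by
  intro k
  induction k with
  | zero => intro _ _ _ x; rfl
  | succ k ih =>
    intro m m' h x
    have hlow : m % 2 ^ k = m' % 2 ^ k := by
      have := congrArg (· % 2 ^ k) h
      simpa [Nat.mod_mod_of_dvd _ (pow_dvd_pow 2 (Nat.le_succ k))] using this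
    have e : ∀ n, ev (k + 1) n x = forceNat (ev k n x) (fun y' => Bool.rec (motive := fun _ => ℕ) y' (gI k y')
        (bitAt k n)) := fun n => rfl
    rw [e, e, ih hlow x, bitAt_congr h]

theorem scan_sound : ∀ (fuel k m y : ℕ), k + fuel = 17 → m < 2 ^ k → y = ev k m (sI 0) →
    scan fuel k m y = true → ∀ m' < 2 ^ 17, m' % 2 ^ k = m → leafOK m' (tm m' 0) = true := by
  intro fuel
  induction fuel with
  | zero =>
    intro k m y hk hm hy h m' hm' he
    obtain rfl : k = 17 := by omega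
    rw [Nat.mod_eq_of_lt hm'] at he
    subst he
    have : tm m' 0 = y := by
      show forceNat (sI 0) _ = y
      rw [forceNat_eq, hy]
    rw [this]; exact h
  | succ fuel ih =>
    intro k m y hk hm hy h m' hm' he
    have h' : (scan fuel (k + 1) m y && forceNat (gI k y) (scan fuel (k + 1) (m + 2 ^ k))) = true := h
    rw [Bool.and_eq_true, forceNat_eq] at h'
    have hp : 2 ^ (k + 1) = 2 ^ k + 2 ^ k := by rw [pow_succ]; omega
    have e : ∀ n, ev (k + 1) n (sI 0) = forceNat (ev k n (sI 0)) (fun y' => Bool.rec (motive := fun _ => ℕ) y'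
        (gI k y') (bitAt k n)) := fun n => rfl
    have hcases : m' % 2 ^ (k + 1) = m ∨ m' % 2 ^ (k + 1) = m + 2 ^ k := by
      have h2 : m' % 2 ^ (k + 1) = m' % 2 ^ k + 2 ^ k * (m' / 2 ^ k % 2) := Nat.mod_pow_succ
      rw [he] at h2
      rcases Nat.mod_two_eq_zero_or_one (m' / 2 ^ k) with hb | hb <;> rw [hb] at h2
      · exact Or.inl (by simpa using h2)
      · exact Or.inr (by simpa using h2)
    rcases hcases with hc | hc
    · refine ih (k + 1) m y (by omega) (by omega) ?_ h'.1 m' hm' hc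
      rw [e, forceNat_eq, ← hy, bitAt_of_lt hm]
    · refine ih (k + 1) (m + 2 ^ k) (gI k y) (by omega) (by omega) ?_ h'.2 m' hm' hc
      rw [e, forceNat_eq, bitAt_top hm,
        ev_congr (k := k) (m' := m) (by rw [Nat.add_mod_right]) (sI 0), ← hy]

theorem scan_all : ∀ m < 8, scan 14 3 m (ev 3 m (sI 0)) = true := by
  intro m hm
  interval_cases m
  exacts [scan_0, scan_1, scan_2, scan_3, scan_4, scan_5, scan_6, scan_7]

theorem leaf_ok {m : ℕ} (hm : m < 2 ^ 17) : leafOK m (tm m 0) = true :=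
  scan_sound 14 3 (m % 2 ^ 3) _ rfl (Nat.mod_lt _ (by norm_num)) rfl (scan_all _ (Nat.mod_lt _ (by norm_num))) m hm rfl

/-- A class index of a representative. -/
theorem roots_wok : ((List.range 27).all fun r => Nat.blt (Data.roots.getD r (3, [])).1 3) = true := by
  decide +kernel

theorem bpts_lt : ∀ x ∈ bpts, x < 3510 := by decide

theorem zero_two_lt : (0 : ℕ) < 3510 ∧ (2 : ℕ) < 3510 := by norm_num

variable {G : Type*} [Group G] {D : Set G} (S : Setup D)
include S

/-- The first member fixed by the outer involution. -/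
noncomputable def Setup.a : G := el S.f Data.aPath

/-- The second member. -/
noncomputable def Setup.b : G := el S.f Data.bPath

/-- The three representatives. -/
noncomputable def Setup.rep : ℕ → MulAut G
  | 0 => S.s
  | 1 => S.s * MulAut.conj S.a
  | _ => S.s * MulAut.conj (S.a * S.b)

theorem Setup.ψ_rep (c : ℕ) (i : Pt) : ((S.ψ (S.rep c) i : Pt) : ℕ) = repI c i := by
  have h := paths_ab_ok
  rw [Bool.and_eq_true] at h
  match c with
  | 0 => exact S.ψ_s_val i
  | 1 =>
    show ((S.ψ (S.s * MulAut.conj S.a) i : Pt) : ℕ) = _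
    rw [map_mul, Equiv.Perm.mul_apply, S.ψ_s_val, S.ψ_conj, Setup.a, el, S.π_eval (wOK_mw h.1)]
    rfl
  | (n + 2) =>
    show ((S.ψ (S.s * MulAut.conj (S.a * S.b)) i : Pt) : ℕ) = _
    rw [map_mul, Equiv.Perm.mul_apply, S.ψ_s_val, S.ψ_conj, Setup.a, Setup.b, map_mul, Equiv.Perm.mul_apply,
      el, S.π_eval (wOK_mw h.1), el, S.π_eval (wOK_mw h.2)]
    rfl

theorem Setup.isConj_root {m r : ℕ} (h : rootOK m r = true) : ∃ c < 3, IsConj (S.tA m) (S.rep c) := by
  simp only [rootOK, Bool.and_eq_true, List.all_eq_true, Nat.blt_eq] at h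
  obtain ⟨⟨hc, hw⟩, hall⟩ := h
  refine ⟨_, hc, isConj_iff.2 ⟨MulAut.conj (eval S.f (Data.roots.getD r (3, [])).2), ?_⟩⟩
  rw [mul_inv_eq_iff_eq_mul]
  refine S.ext_bpts fun x hx => ?_
  rw [map_mul, map_mul, Equiv.Perm.mul_apply, Equiv.Perm.mul_apply, S.ψ_rep, S.ψ_conj, S.π_eval hw,
    S.π_eval hw, S.ψ_tA]
  have := hall _ hx
  rw [forceNat_eq, forceNat_eq] at this
  exact Nat.eq_of_beq_eq_true this

theorem Setup.isConj_found : ∀ (d m j mp : ℕ), findL Data.leaves m = some (d, j, mp) → foundOK m = true →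
    (∀ m' < 2 ^ 17, (findL Data.leaves m').isSome → (S.tA m' * S.tA m' = 1 → foundOK m' = true)) →
    S.tA m * S.tA m = 1 → ∃ c < 3, IsConj (S.tA m) (S.rep c) := by
  intro d
  induction d using Nat.strongRecOn with
  | _ d IH =>
    intro m j mp hf h hall hsq
    have h' := h
    simp only [foundOK, hf] at h'
    by_cases hd : Nat.beq d 0 = true
    · rw [if_pos hd] at h'
      exact S.isConj_root h'
    · rw [if_neg hd] at h'
      simp only [stepOK, Bool.and_eq_true, List.all_eq_true, Nat.blt_eq] at h'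
      obtain ⟨⟨⟨hmp, hj⟩, hd'⟩, heq⟩ := h'
      rcases hfp : findL Data.leaves mp with _ | ⟨d', j', mp'⟩
      · rw [hfp] at hd'; simp at hd'
      rw [hfp] at hd'
      have hlt : d' < d := by simpa [Nat.blt_eq] using hd'
      have he : S.tA m * S.genA j = S.genA j * S.tA mp := S.ext_bpts fun x hx => by
        rw [map_mul, map_mul, Equiv.Perm.mul_apply, Equiv.Perm.mul_apply, S.ψ_tA, S.ψ_genA, S.ψ_genA, S.ψ_tA]
        have := heq _ hx
        rw [forceNat_eq, forceNat_eq] at this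
        exact Nat.eq_of_beq_eq_true this
      have e : S.tA m = S.genA j * S.tA mp * (S.genA j)⁻¹ := eq_mul_inv_of_mul_eq he
      have hsq' : S.tA mp * S.tA mp = 1 := by
        have : S.tA mp = (S.genA j)⁻¹ * S.tA m * S.genA j := by rw [e]; group
        rw [this, show (S.genA j)⁻¹ * S.tA m * S.genA j * ((S.genA j)⁻¹ * S.tA m * S.genA j) =
          (S.genA j)⁻¹ * (S.tA m * S.tA m) * S.genA j by group, hsq]
        group
      obtain ⟨c, hc, hcc⟩ := IH d' hlt mp j' mp' hfp (hall mp hmp (by rw [hfp]; rfl) hsq') hall hsq'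
      exact ⟨c, hc, (isConj_iff.2 ⟨(S.genA j)⁻¹, by rw [e]; group⟩).trans hcc⟩

theorem Setup.foundOK_of_sq {m : ℕ} (hm : m < 2 ^ 17) (hsq : S.tA m * S.tA m = 1) : foundOK m = true := by
  have key : ∀ x < 3510, tm m (tm m x) = x := fun x hx => by
    have := congrArg (fun t => ((S.ψ t (toPt x) : Pt) : ℕ)) hsq
    simpa [Equiv.Perm.mul_apply, S.ψ_tA, toPt_val hx] using this
  have h := leaf_ok hm
  unfold leafOK at h
  rw [key 0 (by norm_num), forceNat_eq, key 2 (by norm_num)] at h
  simpa using h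

theorem Setup.isConj_tA {m : ℕ} (hm : m < 2 ^ 17) (hsq : S.tA m * S.tA m = 1) :
    ∃ c < 3, IsConj (S.tA m) (S.rep c) := by
  have h := S.foundOK_of_sq hm hsq
  rcases hf : findL Data.leaves m with _ | ⟨d, j, mp⟩
  · simp [foundOK, hf] at h
  · exact S.isConj_found d m j mp hf h (fun m' hm' _ hs => S.foundOK_of_sq hm' hs) hsq

/-- Every outer involution is conjugate to one of the three. -/
theorem Setup.exists_isConj_rep [Finite G] (hs : S.s ∉ (MulAut.conj : G →* MulAut G).range)
    (hA : Nat.card (MulAut G) = 2 * Nat.card G) (hG : Nat.card G = 2 ^ 17 * 3 ^ 9 * 5 ^ 2 * 7 * 11 * 13)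
    {t : MulAut G} (ht : orderOf t = 2) (htout : t ∉ (MulAut.conj : G →* MulAut G).range) :
    ∃ c < 3, IsConj t (S.rep c) := by
  have : Finite (MulAut G) := Finite.of_injective (fun φ => (φ : G → G)) DFunLike.coe_injective
  have : Fact (Nat.Prime 2) := ⟨Nat.prime_two⟩
  have hP := S.card_P hs
  have hidx : S.P.index = 3 ^ 9 * 5 ^ 2 * 7 * 11 * 13 := by
    have h := S.P.card_mul_index
    rw [hP, hA, hG] at h
    omega
  let PS : Sylow 2 (MulAut G) := (IsPGroup.of_card hP).toSylow (by rw [hidx]; norm_num)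
  have hz : IsPGroup 2 (Subgroup.zpowers t) :=
    IsPGroup.of_card (n := 1) (by rw [Nat.card_zpowers, ht, pow_one])
  obtain ⟨Q, hQ⟩ := hz.exists_le_sylow
  obtain ⟨g, hg⟩ := MulAction.exists_smul_eq (MulAut G) Q PS
  have hmem : g * t * g⁻¹ ∈ S.P := by
    show g * t * g⁻¹ ∈ (PS : Subgroup (MulAut G))
    rw [← hg, Sylow.coe_subgroup_smul]
    exact ⟨t, hQ (Subgroup.mem_zpowers t), rfl⟩
  set u := g * t * g⁻¹ with hu
  have huu : u * u = 1 := by
    rw [hu, show g * t * g⁻¹ * (g * t * g⁻¹) = g * (t * t) * g⁻¹ by group, ← pow_two, ← ht,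
      pow_orderOf_eq_one]
    group
  rcases S.mem_P.1 hmem with h | h
  · refine absurd ?_ htout
    have hn : ((MulAut.conj : G →* MulAut G).range).Normal :=
      ⟨fun n hn g => by obtain ⟨x, rfl⟩ := hn; exact ⟨g x, by ext y; simp⟩⟩
    have := hn.conj_mem u (S.H_le_inner 17 h) g⁻¹
    simpa [hu, mul_assoc] using this
  · obtain ⟨m, hm, hm'⟩ := S.exists_evA le_rfl _ h
    have e : S.tA m = u := by rw [Setup.tA, hm', mul_assoc, S.s_mul_self, mul_one]
    obtain ⟨c, hc, hcc⟩ := S.isConj_tA hm (by rw [e]; exact huu)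
    exact ⟨c, hc, (isConj_iff.2 ⟨g, e.symm⟩).trans hcc⟩

/-- The three representatives are not conjugate to one another. -/
theorem Setup.not_isConj_rep {c c' : ℕ} (hc : c < 3) (hc' : c' < 3) (hne : c ≠ c') :
    ¬ IsConj (S.rep c) (S.rep c') := by
  have hcount : ∀ c, {i : Pt | S.ψ (S.rep c) i = i}.ncard =
      ((List.range 3510).countP fun x => Nat.beq (repI c x) x) := by
    intro c
    rw [← Set.ncard_image_of_injective _ Fin.val_injective,
      show Fin.val '' {i : Pt | S.ψ (S.rep c) i = i} =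
        ((((List.range 3510).filter fun x => Nat.beq (repI c x) x).toFinset : Finset ℕ) : Set ℕ) from ?_,
      Set.ncard_coe_finset, List.toFinset_card_of_nodup (List.nodup_range.filter _), List.countP_eq_length_filter]
    ext x
    simp only [Set.mem_image, Set.mem_setOf_eq, List.coe_toFinset, List.mem_filter, List.mem_range]
    constructor
    · rintro ⟨i, hi, rfl⟩
      refine ⟨pt_lt i, ?_⟩
      rw [← S.ψ_rep, hi]
      simp
    · rintro ⟨hx, he⟩
      exact ⟨toPt x, Fin.ext (by rw [S.ψ_rep, toPt_val hx]; exact Nat.eq_of_beq_eq_true he), toPt_val hx⟩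
  intro hcj
  obtain ⟨g, hg⟩ := isConj_iff.1 hcj
  have hset : {i : Pt | S.ψ (S.rep c') i = i} = S.ψ g '' {i : Pt | S.ψ (S.rep c) i = i} := by
    ext i
    rw [Equiv.image_eq_preimage_symm, Set.mem_preimage, Set.mem_setOf_eq, Set.mem_setOf_eq, ← hg, map_mul,
      map_mul, map_inv, Equiv.Perm.mul_apply, Equiv.Perm.mul_apply, Equiv.Perm.inv_def]
    exact ⟨fun h => by simpa using congrArg (S.ψ g).symm h, fun h => by rw [h, Equiv.apply_symm_apply]⟩
  have := congrArg Set.ncard hset
  rw [Set.ncard_image_of_injective _ (S.ψ g).injective, hcount, hcount] at this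
  obtain ⟨h0, h1, h2⟩ := fix_counts
  interval_cases c <;> interval_cases c' <;> first | exact hne rfl | (simp only [h0, h1, h2] at this; norm_num at this)

end Cfsg.Agent.Lib.M22Outer
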