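import Cfsg.Agent.Lib.M22Outer.Basic
import Cfsg.Agent.Lib.M22Outer.Data

/-!
# The functions evaluated on the certificate
-/

set_option autoImplicit false
set_option maxRecDepth 30000

namespace Cfsg.Agent.Lib.M22Outer

open Cfsg.Agent.Lib.CosetTable Cfsg.Agent.Lib.Fischer3T.Triality
open Cfsg.Agent.Lib.Compute Cfsg.Agent.Lib.Compute.Big

/-- Entry of a list of tables. -/
noncomputable def ptAt (l : List PT) : ℕ → PT :=
  List.rec (motive := fun _ => ℕ → PT) (fun _ => .leaf 0)
    (fun x _ ih i => Nat.rec (motive := fun _ => PT) x (fun m _ => ih m) i) l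

/-- An inner element on the points. -/
noncomputable def gI (j x : ℕ) : ℕ := img 12 (ptAt Data.gTab j) x

/-- The outer involution on the points. -/
noncomputable def sI (x : ℕ) : ℕ := img 12 Data.sTab x

/-- Digit `k` in base two. -/
noncomputable def bitAt (k m : ℕ) : Bool := Nat.beq (Nat.mod (Nat.div m (Nat.pow 2 k)) 2) 1

/-- The product of the first `k` inner elements chosen by the digits of `m`. -/
noncomputable def ev (k m x : ℕ) : ℕ :=
  Nat.rec (motive := fun _ => ℕ) x
    (fun j y => forceNat y fun y' => Bool.rec (motive := fun _ => ℕ) y' (gI j y') (bitAt j m)) k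

/-- An outer element of the 2-group. -/
noncomputable def tm (m x : ℕ) : ℕ := forceNat (sI x) fun y => ev 17 m y

/-- The nine points. -/
def bpts : List ℕ := [0, 2, 6, 16, 40, 88, 154, 43, 92]

/-- The lookup of a leaf. -/
noncomputable def findL (t : Data.Tr) : ℕ → Option (ℕ × ℕ × ℕ) :=
  Data.Tr.rec (motive := fun _ => ℕ → Option (ℕ × ℕ × ℕ)) (fun _ => none) (fun d j mp _ => some (d, j, mp))
    (fun _ _ fl fr m => Bool.rec (motive := fun _ => Option (ℕ × ℕ × ℕ)) (fl (Nat.div m 2)) (fr (Nat.div m 2))
      (Nat.beq (Nat.mod m 2) 1)) t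

/-- The generators of the 2-group. -/
noncomputable def genI (j x : ℕ) : ℕ :=
  Bool.rec (motive := fun _ => ℕ) (sI x) (gI j x) (Nat.blt j 17)

/-- The three representatives. -/
noncomputable def repI (c x : ℕ) : ℕ :=
  match c with
  | 0 => sI x
  | 1 => sI (Fi22a.tab.walk (mw Data.aPath) x)
  | _ => sI (Fi22a.tab.walk (mw Data.aPath) (Fi22a.tab.walk (mw Data.bPath) x))

/-- The test of a root. -/
noncomputable def rootOK (m r : ℕ) : Bool :=
  Nat.blt (Data.roots.getD r (3, [])).1 3 && wOK (Data.roots.getD r (3, [])).2 &&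
    bpts.all fun x => forceNat (tm m x) fun y => forceNat (Fi22a.tab.walk (Data.roots.getD r (3, [])).2 x) fun z =>
      Nat.beq (Fi22a.tab.walk (Data.roots.getD r (3, [])).2 y) (repI (Data.roots.getD r (3, [])).1 z)

/-- The test of a step. -/
noncomputable def stepOK (m d j mp : ℕ) : Bool :=
  Nat.blt mp (2 ^ 17) && Nat.blt j 18 &&
    (match findL Data.leaves mp with
    | some (d', _, _) => Nat.blt d' d
    | none => false) &&
    bpts.all fun x => forceNat (genI j x) fun y => forceNat (tm mp x) fun z => Nat.beq (tm m y) (genI j z)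

/-- The test of an exceptional leaf. -/
noncomputable def foundOK (m : ℕ) : Bool :=
  match findL Data.leaves m with
  | some (d, j, mp) => if Nat.beq d 0 then rootOK m j else stepOK m d j mp
  | none => false

/-- The test of a leaf; `y` is the image of the first point. -/
noncomputable def leafOK (m y : ℕ) : Bool :=
  ! Nat.beq (tm m y) 0 || (! Nat.beq (forceNat (tm m 2) (tm m)) 2 || foundOK m)

/-- The scan above a partial choice of digits. -/
noncomputable def scan : ℕ → ℕ → ℕ → ℕ → Bool :=
  Nat.rec (motive := fun _ => ℕ → ℕ → ℕ → Bool) (fun _ m y => leafOK m y)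
    (fun _ ih k m y => ih (k + 1) m y && forceNat (gI k y) (ih (k + 1) (m + 2 ^ k)))

/-- The relations of the series. -/
noncomputable def relOK (i : ℕ) : Bool :=
  ((List.range i).all fun j => Nat.blt ((Data.rel.getD i []).getD j (2 ^ 17)) (2 ^ i) &&
    bpts.all fun x => Nat.beq (gI j (gI i x)) (gI i (ev i ((Data.rel.getD i []).getD j (2 ^ 17)) x))) &&
  (Nat.blt (Data.sq.getD i (2 ^ 17)) (2 ^ i) &&
    bpts.all fun x => Nat.beq (gI i (gI i x)) (ev i (Data.sq.getD i (2 ^ 17)) x)) &&
  (Nat.blt (Data.srel.getD i (2 ^ 17)) (2 ^ 17) &&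
    bpts.all fun x => Nat.beq (sI (gI i (sI x))) (ev 17 (Data.srel.getD i (2 ^ 17)) x))

/-- The separating orbit of an inner element. -/
noncomputable def sepOK (i : ℕ) : Bool :=
  let c := Data.sep.getD i ([], [])
  c.1.all (fun x => Nat.blt x 3510) && c.2.contains c.1 &&
    (List.range i).all (fun j => c.2.all fun t => c.2.contains (t.map (gI j))) &&
    ! c.2.contains (c.1.map (gI i))

/-- The table of an inner element agrees with its word. -/
noncomputable def tableOK (j : ℕ) : Bool :=
  (Data.gWord.getD j [25]).all (fun a => Nat.blt a 25) &&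
    (List.range 3510).all fun x => Nat.beq (gI j x) (appW 12 Compute.Big.Fi22.letters (Data.gWord.getD j [25]) x)

/-- The outer involution conjugates a generator into a member. -/
noncomputable def sGenOK (k : ℕ) : Bool :=
  wOK (Data.sPath.getD k []) &&
    Nat.beq (pt (Data.sPath.getD k [])) (sI (pt (Data.genPath.getD k []))) &&
    (List.range 3510).all fun x =>
      Nat.beq (sI (Fi22a.tab.act k x)) (Fi22a.tab.walk (mw (Data.sPath.getD k [])) (sI x))

end Cfsg.Agent.Lib.M22Outer
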