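import Cfsg.Agent.Lib.M22Outer.Centraliser

/-!
# The first two fixed subgroups
-/

set_option autoImplicit false
set_option linter.unusedSectionVars false

namespace Cfsg.Agent.Lib.M22Outer

open Cfsg Cfsg.Agent.Lib.CosetTable Cfsg.Agent.Lib.Fischer3T.Triality
open Cfsg.Agent.Lib.M22Struct66 (Charted Counted)

theorem ncard_toPt_image {l : List ℕ} (hl : l.Nodup) (hlt : ∀ x ∈ l, x < 3510) :
    (toPt '' {x | x ∈ l}).ncard = l.length := by
  rw [Set.InjOn.ncard_image, ← List.coe_toFinset, Set.ncard_coe_finset, List.toFinset_card_of_nodup hl]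
  intro x hx y hy hxy
  have := congrArg Fin.val hxy
  rwa [toPt_val (hlt x hx), toPt_val (hlt y hy)] at this

variable {G : Type*} [Group G] [Finite G] {D : Set G} (S : Setup D)
  {F : Type} [Field F] [Fintype F] (hD : Charted D F) (hf : Counted D F)
include S hD hf

theorem Setup.fix_eq_Ig : fixOf S.s = Ig S.f := by
  refine le_antisymm (fun g hg => ?_) S.Ig_le_fix
  obtain ⟨β, hinj, hrange, hβ⟩ := exists_orth hD hf S.model
  refine normalizer_Ig hD hf S.model hinj hrange hβ ((mem_normalizer_of_conj_mem fun x hx => ?_))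
  have hgens : ∀ i < 9, g * el S.f (gens9.getD i []) * g⁻¹ ∈ Ig S.f := by
    intro i hi
    have hlen : gens9.length = 9 := by decide +kernel
    have h := List.all_eq_true.1 gens9_fixed _ (getD_mem_of_lt [] (hlen.symm ▸ hi))
    simp only [Bool.and_eq_true, Nat.blt_eq] at h
    rw [S.el_mem_pt h.1.1 h.1.2, S.conj]
    have hfix : S.ψ S.s (S.π g (toPt (pt (gens9.getD i [])))) = S.π g (toPt (pt (gens9.getD i []))) :=
      S.π_fix hg (Fin.ext (by rw [S.ψ_s_val, toPt_val h.1.2]; exact Nat.eq_of_beq_eq_true h.2))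
    obtain ⟨k, hk, hki⟩ := S.exists_Ig_orbit hfix
    rw [← hki, ← S.conj, S.mem_pa]
    exact mul_mem (mul_mem hk S.a_mem_Ig) (inv_mem hk)
  induction hx using Subgroup.closure_induction with
  | mem y hy => obtain ⟨i, hi, rfl⟩ := hy; exact hgens i hi
  | one => simp
  | mul y z _ _ hy hz =>
    rw [show g * (y * z) * g⁻¹ = (g * y * g⁻¹) * (g * z * g⁻¹) by group]
    exact mul_mem hy hz
  | inv y _ hy =>
    rw [show g * y⁻¹ * g⁻¹ = (g * y * g⁻¹)⁻¹ by group]
    exact inv_mem hy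

theorem Setup.s_not_inner : S.s ∉ (MulAut.conj : G →* MulAut G).range := by
  rintro ⟨g, hg⟩
  obtain ⟨β, hinj, hrange, hβ⟩ := exists_orth hD hf S.model
  have hc : ∀ x ∈ Ig S.f, Commute g x := fun x hx => by
    have := mem_fixOf.1 (S.Ig_le_fix hx)
    rw [← hg, MulAut.conj_apply] at this
    exact mul_inv_eq_iff_eq_mul.1 this
  have h1 : g = 1 := centralizer_omega hD hf S.model hinj hrange hβ fun x hx => by
    obtain ⟨hI, hN, -⟩ := Ig_structure hD hf S.model hinj hrange hβ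
    exact hc x (hN ▸ Subgroup.le_normalizer hx)
  obtain ⟨x, hx, hne⟩ := a_ok.2.2.2.2.2.2.2.2.2.2.2.2
  refine hne ?_
  have := congrArg (fun t => ((S.ψ t (toPt x) : Pt) : ℕ)) hg
  simp only [h1, map_one, Equiv.Perm.one_apply, toPt_val hx, S.ψ_s_val] at this
  exact this.symm

theorem Setup.orderOf_s : orderOf S.s = 2 := by
  refine orderOf_eq_prime (by rw [pow_two]; exact S.s_mul_self) fun h => S.s_not_inner hD hf (h ▸ one_mem _)

theorem Setup.card_fix : Nat.card (fixOf S.s) = 6 * 174182400 := by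
  obtain ⟨β, hinj, hrange, hβ⟩ := exists_orth hD hf S.model
  rw [S.fix_eq_Ig hD hf]
  exact (Ig_structure hD hf S.model hinj hrange hβ).1

theorem Setup.iso_fix : Nonempty (fixOf S.s ≃* MulAut (Cfsg.Omega (ZMod 2) (Cfsg.quadFormPlus 4 (ZMod 2)))) := by
  obtain ⟨β, hinj, hrange, hβ⟩ := exists_orth hD hf S.model
  obtain ⟨-, -, ⟨e⟩⟩ := Ig_structure hD hf S.model hinj hrange hβ
  exact ⟨(MulEquiv.subgroupCongr (S.fix_eq_Ig hD hf)).trans e⟩

theorem Setup.commute_of_fix_one {g : G} (hg : g ∈ fixOf (S.rep 1)) : Commute g S.a := by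
  have h := paths_ab_ok
  rw [Bool.and_eq_true] at h
  have hcov := S.cover (c := 1) cover1_ok
  have hapex : ∀ j, j < FixData.fix1.length → j ≠ 0 → ∃ y : Pt, S.ψ (S.rep 1) y = y ∧
      ¬ Commute (S.mem (toPt (pt (FixData.fix1.getD j [])))) (S.mem y) := by
    intro j hj hj0
    have h1 := List.all_eq_true.1 fix1_apex j (List.mem_range.2 hj)
    rw [if_neg hj0] at h1
    obtain ⟨p, hp, hne⟩ := List.any_eq_true.1 h1
    have hok := cover1_ok
    simp only [coverOK, Bool.and_eq_true, List.all_eq_true, Nat.blt_eq] at hok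
    have hpj := hok.1 _ (getD_mem_of_lt [] hj)
    refine ⟨toPt (pt p), (hcov _).2 ⟨p, hp, (toPt_val (hok.1 p hp).1.2).symm⟩, fun hc => ?_⟩
    rw [S.commute_iff, ← S.el_mem_pt hpj.1.1 hpj.1.2] at hc
    have := congrArg Fin.val hc
    rw [el, S.π_eval (wOK_mw hpj.1.1), toPt_val (hok.1 p hp).1.2] at this
    rw [this] at hne; simp at hne
  have hall : ∀ y : Pt, S.ψ (S.rep 1) y = y → Commute S.a (S.mem y) := by
    intro y hy
    obtain ⟨p, hp, he⟩ := (hcov y).1 hy
    have h1 := List.all_eq_true.1 fix1_apex 0 (List.mem_range.2 (by decide +kernel))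
    rw [if_pos rfl] at h1
    have := Nat.eq_of_beq_eq_true (List.all_eq_true.1 h1 p hp)
    rw [← S.mem_pa, S.commute_iff, S.mem_pa]
    refine Fin.ext ?_
    rw [Setup.a, el, S.π_eval (wOK_mw h.1), ← he]
    exact this
  have hpa : S.ψ (S.rep 1) ptA = ptA :=
    (hcov _).2 ⟨FixData.fix1.getD 0 [], getD_mem_of_lt [] (by decide +kernel), by
      rw [ptA, toPt_val a_ok.2.2.2.2.2.2.1]; exact a_ok.2.2.2.1⟩
  obtain ⟨p, hp, he⟩ := (hcov _).1 (S.π_fix hg hpa)
  obtain ⟨j, hj, rfl⟩ := List.getElem_of_mem hp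
  by_cases hj0 : j = 0
  · subst hj0
    have : S.π g ptA = ptA := Fin.ext (by
      rw [← he, ptA, toPt_val a_ok.2.2.2.2.2.2.1, ← a_ok.2.2.2.1, List.getD_eq_getElem _ _ hj])
    have h2 := S.conj g ptA
    rw [this, S.mem_pa] at h2
    exact mul_inv_eq_iff_eq_mul.1 h2
  · exfalso
    obtain ⟨y, hy, hnc⟩ := hapex j hj hj0
    refine hnc ?_
    rw [List.getD_eq_getElem _ _ hj, he, toPt_self, ← S.conj, S.mem_pa]
    have hy' : S.ψ (S.rep 1) (S.π g⁻¹ y) = S.π g⁻¹ y := S.π_fix (inv_mem hg) hy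
    have h2 := hall _ hy'
    rw [← S.conj] at h2
    have h3 : Commute (g * S.a * g⁻¹) (g * (g⁻¹ * S.mem y * g⁻¹⁻¹) * g⁻¹) := by
      have := (Commute.map h2 (MulAut.conj g).toMonoidHom)
      simpa using this
    simpa [mul_assoc] using h3

theorem Setup.mem_fix_one {g : G} : g ∈ fixOf (S.rep 1) ↔ g ∈ fixOf S.s ⊓ Subgroup.centralizer ({S.a} : Set G) := by
  have key : Commute g S.a → (S.rep 1 g = S.s g) := fun hc => by
    show S.s (S.a * g * S.a⁻¹) = S.s g
    rw [← hc.eq, mul_inv_cancel_right]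
  constructor
  · intro hg
    have hc := S.commute_of_fix_one hD hf hg
    exact ⟨(key hc).symm.trans hg, Subgroup.mem_centralizer_singleton_iff.2 hc.eq⟩
  · rintro ⟨h1, h2⟩
    exact (key (Subgroup.mem_centralizer_singleton_iff.1 h2)).trans h1

theorem Setup.card_fix_one :
    Nat.card ↥(fixOf S.s ⊓ Subgroup.centralizer ({S.a} : Set G)) = 2903040 := by
  let act : MulAction (fixOf S.s) Pt := MulAction.compHom Pt (S.π.comp (fixOf S.s).subtype)
  have horb : @MulAction.orbit _ _ act.toSMul ptA = {i : Pt | S.ψ S.s i = i} := by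
    ext i
    constructor
    · rintro ⟨g, rfl⟩
      exact S.π_fix g.2 (Fin.ext (by rw [S.ψ_s_val, ptA, toPt_val a_ok.2.2.2.2.2.2.1, a_ok.2.2.2.2.2.2.2.2.1]))
    · intro hi
      obtain ⟨g, hg, rfl⟩ := S.exists_Ig_orbit hi
      exact ⟨⟨g, S.Ig_le_fix hg⟩, rfl⟩
  have hn : {i : Pt | S.ψ S.s i = i}.ncard = 360 := by
    have : {i : Pt | S.ψ S.s i = i} = toPt '' {x | x ∈ FixData.fix0.map fun e => pt e.1} := by
      ext i
      simp only [Set.mem_setOf_eq, Set.mem_image, List.mem_map]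
      constructor
      · intro hi
        obtain ⟨p, hp, he⟩ := (S.cover (c := 0) cover0_ok i).1 hi
        obtain ⟨e, he', rfl⟩ := List.mem_map.1 hp
        exact ⟨_, ⟨e, he', rfl⟩, by rw [he, toPt_self]⟩
      · rintro ⟨_, ⟨e, he, rfl⟩, rfl⟩
        have hok := orb0_ok
        simp only [orbOK, Bool.and_eq_true, List.all_eq_true, Nat.blt_eq] at hok
        exact (S.cover (c := 0) cover0_ok _).2 ⟨e.1, List.mem_map.2 ⟨e, he, rfl⟩,
          (toPt_val (hok.1.2 e he).2).symm⟩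
    have hlt : ∀ x ∈ FixData.fix0.map (fun e => pt e.1), x < 3510 := fun x hx => by
      obtain ⟨e, he, rfl⟩ := List.mem_map.1 hx
      have hok := orb0_ok
      simp only [orbOK, Bool.and_eq_true, List.all_eq_true, Nat.blt_eq] at hok
      exact (hok.1.2 e he).2
    rw [this, ncard_toPt_image orbit_lengths.2.2.2.1 hlt, List.length_map, orbit_lengths.1]
  have hst : Nat.card ↥(fixOf S.s ⊓ Subgroup.centralizer ({S.a} : Set G)) =
      Nat.card (@MulAction.stabilizer _ _ _ act ptA) := by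
    refine Nat.card_congr ⟨fun g => ⟨⟨g.1, g.2.1⟩, ?_⟩, fun g => ⟨g.1.1, g.1.2, ?_⟩, fun g => rfl, fun g => rfl⟩
    · refine S.mem_injective ?_
      show S.mem (S.π g.1 ptA) = _
      rw [← S.conj, S.mem_pa]
      exact mul_inv_eq_iff_eq_mul.2 (Subgroup.mem_centralizer_singleton_iff.1 g.2.2)
    · refine Subgroup.mem_centralizer_singleton_iff.2 (mul_inv_eq_iff_eq_mul.1 ?_)
      have h : S.π g.1.1 ptA = ptA := g.2
      rw [← S.mem_pa, S.conj, h]
  have h := (@MulAction.stabilizer _ _ _ act ptA).card_mul_index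
  rw [MulAction.index_stabilizer, horb, hn, S.card_fix hD hf] at h
  omega

end Cfsg.Agent.Lib.M22Outer
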