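import Cfsg.Agent.Lib.M22Outer.FixChecks

/-!
# Checks for the quotient O⁻(6,2)
-/

set_option autoImplicit false
set_option maxRecDepth 30000
set_option Elab.async false

namespace Cfsg.Agent.Lib.M22Outer

open Cfsg.Agent.Lib.CosetTable Cfsg.Agent.Lib.Fischer3T.Triality
open Cfsg.Agent.Lib.Compute

/-- The reflection vector of a generating member. -/
def hvec (k : ℕ) : ℕ := OrthH1.E2.cert.A.getD (k % 6) 0

/-- The path of a fixed member. -/
def fp (j : ℕ) : List ℕ := opath FixData.fix2 j

/-- The vector of a fixed member. -/
def fv (j : ℕ) : ℕ := FixData.vec.getD j 0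

theorem hgen_length : FixData.hgen.length = 12 := by decide +kernel

theorem fp_ok : ((List.range 72).all fun j => wOK (fp j) && Nat.blt (pt (fp j)) 3510 && Nat.blt (fv j) 64) = true := by
  decide +kernel

theorem hact_ok : ((List.range 12).all fun k => (List.range 72).all fun j => (List.range 72).any fun j' =>
    Nat.beq (Fi22a.tab.walk (mw (FixData.hgen.getD k [])) (pt (fp j))) (pt (fp j')) &&
      Nat.beq (OrthH1.refl OrthH1.E2.cert.qt (hvec k) (fv j)) (fv j')) = true := by decide +kernel

theorem fp_inj : ((List.range 72).map fun j => pt (fp j)).Nodup := by decide +kernel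

theorem vspan_ok : ((List.range 6).all fun i => (List.range 72).any fun q => (List.range 72).any fun q' =>
    Nat.beq (fv q ^^^ fv q') (2 ^ i)) = true := by decide +kernel

/-- The test for a pair of commuting members with different vectors. -/
noncomputable def sepPair (x y : ℕ) : Bool :=
  ! Nat.beq (Fi22a.tab.walk (mw (fp x)) (pt (fp y))) (pt (fp y)) || Nat.beq (fv x) (fv y) ||
    (List.range 72).any fun w => ! Nat.beq (Fi22a.tab.walk (mw (fp x)) (pt (fp w))) (pt (fp w)) &&
      Nat.beq (Fi22a.tab.walk (mw (fp y)) (pt (fp w))) (pt (fp w))

theorem sepPair_ok : ((List.range 72).all fun x => (List.range 72).all fun y => sepPair x y) = true := by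
  decide +kernel

/-- The word of a kernel element. -/
def kw (i : ℕ) : List ℕ := prodW [FixData.hgen.getD i [], FixData.hgen.getD (i + 6) []]

/-- The word of the product of a subset of the six kernel elements. -/
def kprod (m : ℕ) : List ℕ := (((List.range 6).filter fun i => m.testBit i).map kw).flatten

theorem kprod_inj : ((List.range 64).map fun m => sig (kprod m)).Nodup := by decide +kernel

theorem kw_comm : ((List.range 6).all fun i => (List.range 6).all fun j =>
    sig (kw i ++ kw j) == sig (kw j ++ kw i)) = true := by decide +kernel

theorem kw_sq : ((List.range 6).all fun i => sig (kw i ++ kw i) == sig []) = true := by decide +kernel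

end Cfsg.Agent.Lib.M22Outer
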