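import Cfsg.Agent.Lib.M22Outer.Third
import Cfsg.Agent.Lib.M22Outer.MinusChecks
import Cfsg.Agent.Lib.FischerType.OmegaSix

/-!
# The third fixed subgroup is 2^6 : O⁻(6,2)
-/

set_option autoImplicit false
set_option linter.unusedSectionVars false

namespace Cfsg.Agent.Lib.M22Outer

open Cfsg Cfsg.Agent.Lib.CosetTable Cfsg.Agent.Lib.Fischer3T.Triality
open Cfsg.Agent.Lib.M22Struct66 (Charted Counted)
open scoped Matrix

/-- The isometry group of the elliptic form. -/
abbrev Om6 : Type := ↥(Cfsg.isometryGroup (ZMod 2) (Cfsg.quadFormMinus 2 (ZMod 2) 1 1))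

/-- The reflection of a generating member. -/
noncomputable def hrefl (k : ℕ) : Om6 := OrthH1.sgen OrthH1.E2.cert (hvec k)

/-- The vector of a fixed member. -/
def fvec (j : ℕ) : (Fin 2 ⊕ Fin 2) ⊕ Fin 2 → ZMod 2 := OrthH1.dec OrthH1.E2.idx (fv j)

theorem hvec_mem (k : ℕ) : hvec k ∈ OrthH1.E2.cert.A :=
  getD_mem_of_lt 0 (by
    have : OrthH1.E2.cert.A.length = 6 := by decide +kernel
    rw [this]; exact Nat.mod_lt _ (by norm_num))

theorem hrefl_spec {k j : ℕ} (hj : j < 72) :
    OrthH1.isoMat (hrefl k) *ᵥ fvec j =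
      OrthH1.dec OrthH1.E2.idx (OrthH1.refl OrthH1.E2.cert.qt (hvec k) (fv j)) := by
  have h := List.all_eq_true.1 fp_ok j (List.mem_range.2 hj)
  simp only [Bool.and_eq_true, Nat.blt_eq] at h
  rw [hrefl, OrthH1.sgen, dif_pos (hvec_mem k)]
  exact (OrthH1.exists_refl OrthH1.E2.cert _ (hvec_mem k)).choose_spec _ h.2

theorem hrefl_sq (k : ℕ) : hrefl k * hrefl k = 1 := OrthH1.sgen_sq _ (hvec_mem k)

theorem hrefl_add_six (i : ℕ) : hrefl (i + 6) = hrefl i := by
  rw [hrefl, hrefl, hvec, hvec, Nat.add_mod_right]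

theorem hrefl_top (o : Om6) : o ∈ Subgroup.closure {x | ∃ k < 6, hrefl k = x} := by
  refine (Subgroup.closure_mono ?_) (OrthH1.mem_closure_gens OrthH1.E2.cert o)
  rintro x ⟨a, ha, rfl⟩
  obtain ⟨j, hj, rfl⟩ := List.getElem_of_mem ha
  have hl : OrthH1.E2.cert.A.length = 6 := by decide +kernel
  exact ⟨j, hl ▸ hj, by rw [hrefl, hvec, Nat.mod_eq_of_lt (hl ▸ hj), List.getD_eq_getElem _ _ hj]⟩

theorem eq_one_of_fix_fvec {o : Om6} (h : ∀ q < 72, OrthH1.isoMat o *ᵥ fvec q = fvec q) : o = 1 := by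
  refine OrthH1.iso_ext (Matrix.ext fun i k => ?_)
  have hsp := List.all_eq_true.1 vspan_ok (OrthH1.E2.idx k : ℕ) (List.mem_range.2 (OrthH1.E2.idx k).2)
  simp only [List.any_eq_true, List.mem_range] at hsp
  obtain ⟨q, hq, q', hq', he⟩ := hsp
  have e : Pi.single k (1 : ZMod 2) = fvec q + fvec q' := by
    rw [fvec, fvec, ← OrthH1.dec_xor, Nat.eq_of_beq_eq_true he, OrthH1.dec_single]
  have h1 : OrthH1.isoMat o *ᵥ Pi.single k 1 = Pi.single k 1 := by
    rw [e, Matrix.mulVec_add, h q hq, h q' hq']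
  have := congrFun h1 i
  rw [Matrix.mulVec_single_one] at this
  simpa [Matrix.one_apply, Pi.single_apply, OrthH1.isoMat] using this

theorem wOK_kw {i : ℕ} (hi : i < 6) : wOK (kw i) = true := by
  have h : ∀ i < 6, wOK (kw i) = true := by decide +kernel
  exact h i hi

variable {G : Type*} [Group G] [Finite G] {D : Set G} (S : Setup D)
  {F : Type} [Field F] [Fintype F] (hD : Charted D F) (hf : Counted D F)
include S hD hf

/-- The pairs of an element and the isometry it induces. -/
noncomputable def Setup.M : Subgroup (G × Om6) :=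
  Subgroup.closure {x | ∃ k < 12, (el S.f (FixData.hgen.getD k []), hrefl k) = x}

theorem Setup.good {x : G × Om6} (hx : x ∈ S.M) : ∀ j < 72, ∃ j' < 72,
    x.1 * el S.f (fp j) * x.1⁻¹ = el S.f (fp j') ∧ OrthH1.isoMat x.2 *ᵥ fvec j = fvec j' := by
  have hwok : ∀ j < 72, wOK (fp j) = true := fun j hj => by
    have h := List.all_eq_true.1 fp_ok j (List.mem_range.2 hj)
    simp only [Bool.and_eq_true] at h
    exact h.1.1
  rw [Setup.M, ← Subgroup.mem_toSubmonoid, Subgroup.closure_toSubmonoid_of_finite] at hx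
  induction hx using Submonoid.closure_induction with
  | mem y hy =>
    obtain ⟨k, hk, rfl⟩ := hy
    intro j hj
    have h := List.all_eq_true.1 (List.all_eq_true.1 hact_ok k (List.mem_range.2 hk)) j (List.mem_range.2 hj)
    simp only [List.any_eq_true, List.mem_range, Bool.and_eq_true] at h
    obtain ⟨j', hj', he, hv⟩ := h
    refine ⟨j', hj', ?_, ?_⟩
    · have hg := List.all_eq_true.1 hgen_fixed _ (getD_mem_of_lt [] (show k < FixData.hgen.length by rw [hgen_length]; exact hk))
      simp only [Bool.and_eq_true] at hg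
      exact S.conj_eval (wOK_mw hg.1.1) (hwok j hj) (hwok j' hj') (Nat.eq_of_beq_eq_true he)
    · rw [hrefl_spec hj, Nat.eq_of_beq_eq_true hv]; rfl
  | one => exact fun q hq => ⟨q, hq, by simp, by simp [OrthH1.isoMat]⟩
  | mul y z _ _ hy hz =>
    intro q hq
    obtain ⟨q', hq', e1, e2⟩ := hz q hq
    obtain ⟨q'', hq'', f1, f2⟩ := hy q' hq'
    refine ⟨q'', hq'', ?_, ?_⟩
    · rw [Prod.fst_mul, show y.1 * z.1 * el S.f (fp q) * (y.1 * z.1)⁻¹ =
        y.1 * (z.1 * el S.f (fp q) * z.1⁻¹) * y.1⁻¹ by group, e1, f1]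
    · rw [Prod.snd_mul, OrthH1.isoMat_mul, ← Matrix.mulVec_mulVec, e2, f2]

theorem Setup.fp_el {j : ℕ} (hj : j < 72) : el S.f (fp j) = S.mem (toPt (pt (fp j))) := by
  have h := List.all_eq_true.1 fp_ok j (List.mem_range.2 hj)
  simp only [Bool.and_eq_true, Nat.blt_eq] at h
  exact S.el_mem_pt h.1.1 h.1.2

theorem Setup.fp_injective {j j' : ℕ} (hj : j < 72) (hj' : j' < 72) (h : el S.f (fp j) = el S.f (fp j')) : j = j' := by
  rw [S.fp_el hD hf hj, S.fp_el hD hf hj'] at h
  have hb := fun q (hq : q < 72) => (by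
    have h := List.all_eq_true.1 fp_ok q (List.mem_range.2 hq)
    simp only [Bool.and_eq_true, Nat.blt_eq] at h
    exact h.1.2 : pt (fp q) < 3510)
  have e := congrArg Fin.val (S.mem_injective h)
  rw [toPt_val (hb j hj), toPt_val (hb j' hj')] at e
  exact List.inj_on_of_nodup_map fp_inj (List.mem_range.2 hj) (List.mem_range.2 hj') e

theorem Setup.fst_injective : Function.Injective ((MonoidHom.fst G Om6).comp S.M.subtype) := by
  rw [injective_iff_map_eq_one]
  rintro ⟨x, hx⟩ h
  have h1 : x.1 = 1 := h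
  refine Subtype.ext (Prod.ext h1 (eq_one_of_fix_fvec fun q hq => ?_))
  obtain ⟨q', hq', e1, e2⟩ := S.good hD hf hx q hq
  rw [h1, one_mul, inv_one, mul_one] at e1
  rw [e2, S.fp_injective hD hf hq hq' e1]

theorem Setup.fst_mem {x : G × Om6} (hx : x ∈ S.M) : x.1 ∈ fixOf (S.rep 2) := by
  induction hx using Subgroup.closure_induction with
  | mem y hy =>
    obtain ⟨k, hk, rfl⟩ := hy
    exact S.hgen_mem hD hf (getD_mem_of_lt [] (by rw [hgen_length]; exact hk))
  | one => exact one_mem _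
  | mul y z _ _ h1 h2 => exact mul_mem h1 h2
  | inv y _ h1 => exact inv_mem h1

theorem Setup.snd_surjective : Function.Surjective ((MonoidHom.snd G Om6).comp S.M.subtype) := by
  rw [← MonoidHom.range_eq_top, eq_top_iff]
  intro o _
  refine (Subgroup.closure_le _).2 ?_ (hrefl_top o)
  rintro _ ⟨k, hk, rfl⟩
  exact ⟨⟨_, Subgroup.subset_closure ⟨k, by omega, rfl⟩⟩, rfl⟩

/-- The six generators of the kernel. -/
noncomputable def Setup.kgen (i : ℕ) : G × Om6 := (eval S.f (kw i), 1)

theorem Setup.kgen_mem {i : ℕ} (hi : i < 6) : S.kgen i ∈ S.M := by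
  have h1 : (el S.f (FixData.hgen.getD i []), hrefl i) ∈ S.M := Subgroup.subset_closure ⟨i, by omega, rfl⟩
  have h2 : (el S.f (FixData.hgen.getD (i + 6) []), hrefl (i + 6)) ∈ S.M :=
    Subgroup.subset_closure ⟨i + 6, by omega, rfl⟩
  have := mul_mem h1 h2
  rwa [Prod.mk_mul_mk, hrefl_add_six, hrefl_sq,
    show el S.f (FixData.hgen.getD i []) * el S.f (FixData.hgen.getD (i + 6) []) = eval S.f (kw i) by
      rw [kw, eval_prodW]; simp] at this

/-- The kernel. -/
noncomputable def Setup.W : Subgroup S.M := ((MonoidHom.snd G Om6).comp S.M.subtype).ker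

theorem Setup.card_W_ge : 64 ≤ Nat.card S.W := by
  have hmem : ∀ m : ℕ, (eval S.f (kprod m), (1 : Om6)) ∈ S.M := by
    intro m
    have : ∀ l : List ℕ, (∀ i ∈ l, i < 6) → (eval S.f (l.map kw).flatten, (1 : Om6)) ∈ S.M := by
      intro l
      induction l with
      | nil => intro _; exact one_mem S.M
      | cons i l ih =>
        intro hl
        have := mul_mem (ih fun j hj => hl j (List.mem_cons_of_mem _ hj)) (S.kgen_mem hD hf (hl i (by simp)))
        rwa [Setup.kgen, Prod.mk_mul_mk, mul_one, ← eval_append] at this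
    exact this _ fun i hi => List.mem_range.1 (List.mem_filter.1 hi).1
  let φ : Fin 64 → S.W := fun m => ⟨⟨_, hmem m⟩, MonoidHom.mem_ker.2 rfl⟩
  have hinj : Function.Injective φ := by
    intro m m' h
    have e : eval S.f (kprod m) = eval S.f (kprod m') := congrArg (fun z : S.W => ((z : S.M) : G × Om6).1) h
    have hw : ∀ m < 64, wOK (kprod m) = true := by decide +kernel
    rw [S.model.eq_iff (hw m m.2) (hw m' m'.2)] at e
    exact Fin.ext (List.inj_on_of_nodup_map kprod_inj (List.mem_range.2 m.2) (List.mem_range.2 m'.2) e)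
  simpa using Nat.card_le_card_of_injective φ hinj

theorem Setup.card_M : Nat.card S.M = 3317760 ∧ Nat.card S.W = 64 := by
  let φ : S.M →* fixOf (S.rep 2) :=
    ((MonoidHom.fst G Om6).comp S.M.subtype).codRestrict _ fun x => S.fst_mem hD hf x.2
  have hφ : Function.Injective φ := fun x y h => S.fst_injective hD hf (congrArg Subtype.val h)
  have hle := Nat.card_le_card_of_injective φ hφ
  rw [S.card_fix_two hD hf] at hle
  have hidx : S.W.index = 51840 := by
    rw [Setup.W, Subgroup.index_ker, MonoidHom.range_eq_top.2 (S.snd_surjective hD hf), Subgroup.card_top,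
      FischerType.card_Qm]
  have h := S.W.card_mul_index
  have hge := S.card_W_ge hD hf
  rw [hidx] at h
  omega

/-- The pairs are exactly the fixed elements. -/
theorem Setup.exists_iso_M : ∃ φ : S.M ≃* fixOf (S.rep 2), ∀ x, ((φ x : fixOf (S.rep 2)) : G) = (x : G × Om6).1 := by
  let φ : S.M →* fixOf (S.rep 2) :=
    ((MonoidHom.fst G Om6).comp S.M.subtype).codRestrict _ fun x => S.fst_mem hD hf x.2
  have hφ : Function.Injective φ := fun x y h => S.fst_injective hD hf (congrArg Subtype.val h)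
  exact ⟨MulEquiv.ofBijective φ ((Nat.bijective_iff_injective_and_card _).2
    ⟨hφ, by rw [(S.card_M hD hf).1, S.card_fix_two hD hf]⟩), fun x => rfl⟩

end Cfsg.Agent.Lib.M22Outer
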