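import Cfsg.Agent.Lib.M22Outer.Minus
import Cfsg.Agent.Lib.PSolvable.Core
import Cfsg.Prelude.Def_Transfer

/-!
# The 2-core of the third fixed subgroup and its quotient
-/

set_option autoImplicit false
set_option linter.unusedSectionVars false

namespace Cfsg.Agent.Lib.M22Outer

open Cfsg Cfsg.Agent.Lib.CosetTable Cfsg.Agent.Lib.Fischer3T.Triality
open Cfsg.Agent.Lib.M22Struct66 (Charted Counted)
open scoped Matrix

theorem wOK_kprod {m : ℕ} (hm : m < 64) : wOK (kprod m) = true := by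
  have h : ∀ m < 64, wOK (kprod m) = true := by decide +kernel
  exact h m hm

theorem pCore_normal' (p : ℕ) (X : Type*) [Group X] : (Cfsg.pCore p X).Normal :=
  have := PSolvable.pCore_characteristic (p := p) (G := X)
  Subgroup.normal_of_characteristic _

variable {G : Type*} [Group G] [Finite G] {D : Set G} (S : Setup D)
  {F : Type} [Field F] [Fintype F] (hD : Charted D F) (hf : Counted D F)
include S hD hf

theorem Setup.W_spec : ∀ x ∈ S.W, (∀ y ∈ S.W, Commute x y) ∧ x * x = 1 := by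
  set W' : Subgroup (G × Om6) := S.W.map S.M.subtype with hW'
  set T : Subgroup (G × Om6) := Subgroup.closure {x | ∃ i < 6, S.kgen i = x} with hT
  have hmem : ∀ m : ℕ, (eval S.f (kprod m), (1 : Om6)) ∈ T := by
    intro m
    have : ∀ l : List ℕ, (∀ i ∈ l, i < 6) → (eval S.f (l.map kw).flatten, (1 : Om6)) ∈ T := by
      intro l
      induction l with
      | nil => intro _; exact one_mem T
      | cons i l ih =>
        intro hl
        have := mul_mem (ih fun j hj => hl j (List.mem_cons_of_mem _ hj))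
          (Subgroup.subset_closure ⟨i, hl i (by simp), rfl⟩ : S.kgen i ∈ T)
        rwa [Setup.kgen, Prod.mk_mul_mk, mul_one, ← eval_append] at this
    exact this _ fun i hi => List.mem_range.1 (List.mem_filter.1 hi).1
  have hle : T ≤ W' := by
    refine (Subgroup.closure_le _).2 ?_
    rintro _ ⟨i, hi, rfl⟩
    exact ⟨⟨_, S.kgen_mem hD hf hi⟩, MonoidHom.mem_ker.2 rfl, rfl⟩
  have hge : 64 ≤ Nat.card T := by
    let φ : Fin 64 → T := fun m => ⟨_, hmem m⟩
    have hinj : Function.Injective φ := by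
      intro m m' h
      have e : eval S.f (kprod m) = eval S.f (kprod m') := congrArg (fun z : T => (z : G × Om6).1) h
      rw [S.model.eq_iff (wOK_kprod m.2) (wOK_kprod m'.2)] at e
      exact Fin.ext (List.inj_on_of_nodup_map kprod_inj (List.mem_range.2 m.2) (List.mem_range.2 m'.2) e)
    simpa using Nat.card_le_card_of_injective φ hinj
  have hcW : Nat.card W' = 64 := by
    rw [hW', Subgroup.card_map_of_injective (K := S.W) S.M.subtype_injective, (S.card_M hD hf).2]
  have heq : T = W' := Subgroup.eq_of_le_of_card_ge hle (hcW.trans_le hge)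
  have hgen : ∀ i < 6, ∀ j < 6, Commute (S.kgen i) (S.kgen j) ∧ S.kgen i * S.kgen i = 1 := by
    intro i hi j hj
    have hc := List.all_eq_true.1 (List.all_eq_true.1 kw_comm i (List.mem_range.2 hi)) j (List.mem_range.2 hj)
    have hs := List.all_eq_true.1 kw_sq i (List.mem_range.2 hi)
    refine ⟨?_, ?_⟩
    · have e := (S.model.eq_iff (wOK_append (wOK_kw hi) (wOK_kw hj)) (wOK_append (wOK_kw hj) (wOK_kw hi))).2
        (eq_of_beq hc)
      rw [eval_append, eval_append] at e
      exact Prod.ext e.symm rfl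
    · have e := (S.model.eq_iff (wOK_append (wOK_kw hi) (wOK_kw hi)) (rfl : wOK [] = true)).2 (eq_of_beq hs)
      rw [eval_append] at e
      exact Prod.ext e (mul_one _)
  have hall : ∀ x ∈ T, (∀ y ∈ T, Commute x y) ∧ x * x = 1 := by
    have hc : ∀ x ∈ T, ∀ y ∈ T, Commute x y := by
      intro x hx
      induction hx using Subgroup.closure_induction with
      | mem y hy =>
        obtain ⟨i, hi, rfl⟩ := hy
        intro z hz
        induction hz using Subgroup.closure_induction with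
        | mem w hw => obtain ⟨j, hj, rfl⟩ := hw; exact (hgen i hi j hj).1
        | one => exact Commute.one_right _
        | mul u v _ _ h1 h2 => exact h1.mul_right h2
        | inv u _ h1 => exact h1.inv_right
      | one => exact fun _ _ => Commute.one_left _
      | mul u v _ _ h1 h2 => exact fun z hz => (h1 z hz).mul_left (h2 z hz)
      | inv u _ h1 => exact fun z hz => (h1 z hz).inv_left
    intro x hx
    refine ⟨hc x hx, ?_⟩
    induction hx using Subgroup.closure_induction with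
    | mem y hy => obtain ⟨i, hi, rfl⟩ := hy; exact (hgen i hi i hi).2
    | one => simp
    | mul u v hu hv h1 h2 =>
      rw [show u * v * (u * v) = u * (v * u) * v by group, ← (hc u hu v hv).eq, show u * (u * v) * v = (u * u) * (v * v) by group, h1, h2, one_mul]
    | inv u _ h1 => rw [← mul_inv_rev, h1, inv_one]
  intro x hx
  have hx' : (x : G × Om6) ∈ T := heq ▸ ⟨x, hx, rfl⟩
  exact ⟨fun y hy => Subtype.ext ((hall _ hx').1 (y : G × Om6) (heq ▸ ⟨y, hy, rfl⟩)).eq,
    Subtype.ext (hall _ hx').2⟩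

theorem Setup.pCore_le_W : Cfsg.pCore 2 S.M ≤ S.W := by
  have := Fact.mk Nat.prime_two
  have hN : IsPGroup 2 (Cfsg.pCore 2 S.M) := PSolvable.pCore_isPGroup
  have hnorm : (Cfsg.pCore 2 S.M).Normal := pCore_normal' 2 S.M
  intro n hn
  refine MonoidHom.mem_ker.2 (eq_one_of_fix_fvec fun q hq => ?_)
  obtain ⟨q', hq', e1, e2⟩ := S.good hD hf n.2 q hq
  show OrthH1.isoMat ((n : G × Om6).2) *ᵥ fvec q = fvec q
  rw [e2]
  -- the two members
  set x := el S.f (fp q) with hxdef
  set y := el S.f (fp q') with hydef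
  have hset := hD.grp.1
  have hlt : ∀ j < 72, wOK (fp j) = true ∧ pt (fp j) < 3510 := fun j hj => by
    have h := List.all_eq_true.1 fp_ok j (List.mem_range.2 hj)
    simp only [Bool.and_eq_true, Nat.blt_eq] at h
    exact h.1
  have hxD : ∀ j < 72, el S.f (fp j) ∈ D := fun j hj => S.fp_el hD hf hj ▸ S.mem_mem _
  obtain ⟨φ, hφ⟩ := S.exists_iso_M hD hf
  have hin : ∀ j < 72, ∃ z : S.M, ((z : G × Om6).1) = el S.f (fp j) := fun j hj => by
    have hmem : el S.f (fp j) ∈ fixOf (S.rep 2) := by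
      rw [S.fp_el hD hf hj, S.mem_fixOf_iff]
      exact (S.cover (c := 2) cover2_ok _).2 ⟨fp j, List.mem_map.2 ⟨FixData.fix2.getD j ([], 0, 0),
        getD_mem_of_lt _ (by rw [orbit_lengths.2.2.1]; exact hj), rfl⟩, (toPt_val (hlt j hj).2).symm⟩
    exact ⟨φ.symm ⟨_, hmem⟩, by rw [← hφ, φ.apply_symm_apply]⟩
  have hN1 : ∀ z : S.M, z ∈ Cfsg.pCore 2 S.M → ∃ k : ℕ, (z : G × Om6).1 ^ 2 ^ k = 1 := fun z hz => by
    obtain ⟨k, hk⟩ := hN ⟨z, hz⟩
    exact ⟨k, congrArg (fun w : Cfsg.pCore 2 S.M => ((w : S.M) : G × Om6).1) hk⟩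
  have noThree : ∀ z : S.M, z ∈ Cfsg.pCore 2 S.M → ∀ a ∈ D, ∀ b ∈ D, (z : G × Om6).1 = a * b → Commute a b := by
    intro z hz a ha b hb he
    by_contra hab
    obtain ⟨k, hk⟩ := hN1 z hz
    have h3 := ThreeTransp.orderOf_eq_three hset ha hb hab
    rw [he, ← orderOf_dvd_iff_pow_eq_one, h3] at hk
    exact absurd (Nat.le_of_dvd (by norm_num) (Nat.prime_three.dvd_of_dvd_pow hk)) (by norm_num)
  obtain ⟨zx, hzx⟩ := hin q hq
  have hc1 : zx * (n * zx⁻¹ * n⁻¹) ∈ Cfsg.pCore 2 S.M := by
    rw [← mul_assoc, ← mul_assoc]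
    exact mul_mem (hnorm.conj_mem n hn zx) (inv_mem hn)
  have hxx : x⁻¹ = x := ThreeTransp.inv_eq hset (hxD q hq)
  have hval : ((zx * (n * zx⁻¹ * n⁻¹) : S.M) : G × Om6).1 = x * y := by
    simp only [Subgroup.coe_mul, Subgroup.coe_inv, Prod.fst_mul, Prod.fst_inv, hzx]
    rw [← hxdef, hxx, e1]
  have hxy : Commute x y := noThree _ hc1 x (hxD q hq) y (hxD q' hq') hval
  by_contra hne
  have h := List.all_eq_true.1 (List.all_eq_true.1 sepPair_ok q (List.mem_range.2 hq)) q' (List.mem_range.2 hq')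
  simp only [sepPair, Bool.or_eq_true, List.any_eq_true, List.mem_range, Bool.and_eq_true] at h
  have hcomm : ∀ {i j : ℕ}, i < 72 → j < 72 →
      (Commute (el S.f (fp i)) (el S.f (fp j)) ↔ Fi22a.tab.walk (mw (fp i)) (pt (fp j)) = pt (fp j)) := by
    intro i j hi hj
    rw [S.fp_el hD hf hi, S.fp_el hD hf hj, S.commute_iff, ← S.fp_el hD hf hi, Fin.ext_iff, el,
      S.π_eval (wOK_mw (hlt i hi).1), toPt_val (hlt j hj).2]
  rcases h with (h | h) | ⟨w, hw, hw1, hw2⟩
  · rw [(hcomm hq hq').1 hxy] at h; simp at h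
  · exact hne (by rw [fvec, fvec, Nat.eq_of_beq_eq_true h])
  · set u := el S.f (fp w)
    have hxu : ¬ Commute x u := fun hc => by rw [(hcomm hq hw).1 hc] at hw1; simp at hw1
    have hyu : Commute y u := (hcomm hq' hw).2 (Nat.eq_of_beq_eq_true hw2)
    obtain ⟨zu, hzu⟩ := hin w hw
    set zc := zx * (n * zx⁻¹ * n⁻¹)
    have hc2 : zu * (zc * zu⁻¹ * zc⁻¹) ∈ Cfsg.pCore 2 S.M := by
      rw [← mul_assoc, ← mul_assoc]
      exact mul_mem (hnorm.conj_mem zc hc1 zu) (inv_mem hc1)
    have hu := hxD w hw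
    have hconj : x * y * u * (x * y)⁻¹ = x * u * x := by
      rw [show x * y * u * (x * y)⁻¹ = x * (y * u * y⁻¹) * x⁻¹ by group, hyu.eq, mul_inv_cancel_right, hxx]
    have hu' : x * u * x ∈ D := by
      have := hD.grp.2.1 x u hu
      rwa [hxx] at this
    refine ThreeTransp.not_commute_third hset hu (hxD q hq) (fun hc => hxu hc.symm) ?_
    rw [show u * x * u = x * u * x from (ThreeTransp.braid hset (hxD q hq) hu hxu).symm]
    refine noThree _ hc2 u hu _ hu' ?_
    rw [← hconj, ← hval]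
    simp only [Subgroup.coe_mul, Subgroup.coe_inv, Prod.fst_mul, Prod.fst_inv, hzu]
    rw [ThreeTransp.inv_eq hset hu]

theorem Setup.pCore_eq_W : Cfsg.pCore 2 S.M = S.W := by
  have := Fact.mk Nat.prime_two
  refine le_antisymm (S.pCore_le_W hD hf) ?_
  have : S.W.Normal := MonoidHom.normal_ker _
  exact PSolvable.le_pCore (IsPGroup.of_card (n := 6) (by rw [(S.card_M hD hf).2]; norm_num))

theorem Setup.third_clause : ∃ O : Subgroup G, O = (Cfsg.pCore 2 ↥(fixOf (S.rep 2))).map (fixOf (S.rep 2)).subtype ∧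
    Cfsg.IsElementaryAbelian 2 O ∧ Nat.card O = 64 ∧ ∃ _ : (O.subgroupOf (fixOf (S.rep 2))).Normal,
      Nonempty (↥(fixOf (S.rep 2)) ⧸ O.subgroupOf (fixOf (S.rep 2)) ≃*
        Cfsg.isometryGroup (ZMod 2) (Cfsg.quadFormMinus 2 (ZMod 2) 1 1)) := by
  obtain ⟨φ, hφ⟩ := S.exists_iso_M hD hf
  set K := fixOf (S.rep 2) with hK
  let ρ : K →* Om6 := ((MonoidHom.snd G Om6).comp S.M.subtype).comp φ.symm.toMonoidHom
  have hρ : Function.Surjective ρ := (S.snd_surjective hD hf).comp φ.symm.surjective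
  have hker : Cfsg.pCore 2 K = ρ.ker := by
    have hmap : (Cfsg.pCore 2 S.M).map φ.toMonoidHom = Cfsg.pCore 2 K := by
      refine le_antisymm ?_ ?_
      · have := (pCore_normal' 2 S.M).map φ.toMonoidHom φ.surjective
        exact PSolvable.le_pCore (PSolvable.pCore_isPGroup.map φ.toMonoidHom)
      · have := (pCore_normal' 2 K).map φ.symm.toMonoidHom φ.symm.surjective
        have h := PSolvable.le_pCore (p := 2) (N := (Cfsg.pCore 2 K).map φ.symm.toMonoidHom)
          (PSolvable.pCore_isPGroup.map φ.symm.toMonoidHom)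
        intro k hk
        exact ⟨φ.symm k, h ⟨k, hk, rfl⟩, φ.apply_symm_apply k⟩
    rw [← hmap, S.pCore_eq_W hD hf]
    ext k
    simp only [Subgroup.mem_map, MonoidHom.mem_ker]
    constructor
    · rintro ⟨x, hx, rfl⟩
      show ((φ.symm (φ x) : S.M) : G × Om6).2 = 1
      rw [φ.symm_apply_apply]; exact hx
    · exact fun hk => ⟨φ.symm k, hk, φ.apply_symm_apply k⟩
  have hsub : ((Cfsg.pCore 2 K).map K.subtype).subgroupOf K = ρ.ker := by
    rw [Subgroup.subgroupOf, Subgroup.comap_map_eq_self_of_injective K.subtype_injective, hker]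
  have hnorm : (((Cfsg.pCore 2 K).map K.subtype).subgroupOf K).Normal := hsub ▸ MonoidHom.normal_ker ρ
  refine ⟨_, rfl, ⟨⟨⟨?_⟩⟩, ?_⟩, ?_, hnorm, ⟨(QuotientGroup.quotientMulEquivOfEq hsub).trans
    (QuotientGroup.quotientKerEquivOfSurjective ρ hρ)⟩⟩
  · rintro ⟨_, a, ha, rfl⟩ ⟨_, b, hb, rfl⟩
    rw [SetLike.mem_coe, hker, MonoidHom.mem_ker] at ha hb
    have h := (S.W_spec hD hf (φ.symm a) ha).1 (φ.symm b) hb
    have := congrArg φ h.eq
    simp only [map_mul, MulEquiv.apply_symm_apply] at this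
    exact Subtype.ext (congrArg Subtype.val this :)
  · rintro _ ⟨a, ha, rfl⟩
    rw [SetLike.mem_coe, hker, MonoidHom.mem_ker] at ha
    have := congrArg φ (S.W_spec hD hf (φ.symm a) ha).2
    simp only [map_mul, MulEquiv.apply_symm_apply, map_one] at this
    rw [pow_two]
    exact congrArg Subtype.val this
  · rw [Subgroup.card_map_of_injective (K := Cfsg.pCore 2 K) K.subtype_injective]
    have h := ρ.ker.card_mul_index
    rw [Subgroup.index_ker, MonoidHom.range_eq_top.2 hρ, Subgroup.card_top, FischerType.card_Qm,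
      S.card_fix_two hD hf] at h
    rw [hker]
    omega

end Cfsg.Agent.Lib.M22Outer
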