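import Cfsg.Agent.Lib.M22Outer.SpSix

/-!
# `C(a)` inside the first fixed subgroup is `2 × PSp(6,2)`
-/

set_option autoImplicit false
set_option linter.unusedSectionVars false

namespace Cfsg.Agent.Lib.M22Outer

open Cfsg Cfsg.Agent.Lib.CosetTable Cfsg.Agent.Lib.Fischer3T.Triality
open Cfsg.Agent.Lib.M22Struct66 (Charted Counted)
open scoped Matrix

theorem mask_nodup : ∀ q < 120, ∀ q' < 120, (Fischer3T.Triality.Data.mask.getD q 0) = (Fischer3T.Triality.Data.mask.getD q' 0) → q = q' := by
  decide +kernel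

theorem center_sp : Subgroup.center (Matrix.symplecticGroup (Fin 3) (ZMod 2)) = ⊥ := by
  refine Subgroup.card_eq_one.1 ?_
  rw [Classical.natCard_center_symplecticGroup 3 (by norm_num), ZMod.card]
  rfl

theorem bil_vecq_zero : bil (vecq 0) (vecq 0) = 0 := by decide +kernel

theorem card_sp : Nat.card (Matrix.symplecticGroup (Fin 3) (ZMod 2)) = 1451520 := by
  rw [Classical.natCard_symplecticGroup 3, Nat.card_zmod, Finset.prod_range_succ, Finset.prod_range_succ,
    Finset.prod_range_one]
  norm_num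

variable {G : Type*} [Group G] [Finite G] {D : Set G} (S : Setup D)
  {F : Type} [Field F] [Fintype F] (hD : Charted D F) (hf : Counted D F)
include S hD hf

section Beta

variable {β : Orth8 →* G} (hinj : Function.Injective β) (hrange : β.range = Kg S.f)
  (hβ : ∀ j < 8, β (rho j) = el S.f (gp j))
include hinj hrange hβ

theorem Setup.equivariant (o : Orth8) : ∀ q < 120, ∃ q' < 120,
    β o * el S.f (cp q) * (β o)⁻¹ = el S.f (cp q') ∧ OrthH1.isoMat o *ᵥ vecq q = vecq q' := by
  have ho := rho_top o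
  rw [← Subgroup.mem_toSubmonoid, Subgroup.closure_toSubmonoid_of_finite] at ho
  induction ho using Submonoid.closure_induction with
  | mem y hy =>
    obtain ⟨j, hj, rfl⟩ := hy
    exact fun q hq => ⟨pj j q, pj_lt hj hq, by rw [hβ j hj]; exact action hD hf S.model hj hq, rho_vecq hj hq⟩
  | one => exact fun q hq => ⟨q, hq, by simp, by simp [OrthH1.isoMat]⟩
  | mul y z _ _ hy hz =>
    intro q hq
    obtain ⟨q', hq', e1, e2⟩ := hz q hq
    obtain ⟨q'', hq'', f1, f2⟩ := hy q' hq'
    refine ⟨q'', hq'', ?_, ?_⟩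
    · rw [map_mul, show β y * β z * el S.f (cp q) * (β y * β z)⁻¹ =
        β y * (β z * el S.f (cp q) * (β z)⁻¹) * (β y)⁻¹ by group, e1, f1]
    · rw [OrthH1.isoMat_mul, ← Matrix.mulVec_mulVec, e2, f2]

theorem Setup.mem_St_iff (o : Orth8) : o ∈ St ↔ Commute (β o) (el S.f (cp 34)) := by
  obtain ⟨q', hq', e1, e2⟩ := S.equivariant hD hf hinj hrange hβ o 34 (by norm_num)
  constructor
  · intro h
    have h' : vecq q' = vecq 34 := e2.symm.trans h
    have hlt : ∀ q < 120, (Fischer3T.Triality.Data.mask.getD q 0) < 2 ^ 8 := by decide +kernel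
    have := mask_nodup q' hq' 34 (by norm_num) (OrthH1.dec_inj _ (hlt _ hq') (hlt 34 (by norm_num)) h')
    rw [this] at e1
    exact mul_inv_eq_iff_eq_mul.1 e1
  · intro h
    rw [h.eq, mul_inv_cancel_right] at e1
    have := class_injective hD hf S.model (by norm_num) hq' e1
    show OrthH1.isoMat o *ᵥ wv = wv
    rw [wv, e2, this]

/-- The centraliser of the member with vector `w` among the first fixed elements. -/
theorem Setup.iso_centralizer : Nonempty (↥(fixOf S.s ⊓ Subgroup.centralizer ({S.a} : Set G)) ≃*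
    Multiplicative (ZMod 2) × Cfsg.PSp 3 (ZMod 2)) := by
  have := Fact.mk Nat.prime_two
  set a' := el S.f (cp 34) with ha'
  set C := fixOf S.s ⊓ Subgroup.centralizer ({S.a} : Set G) with hC
  -- move to the member with vector w
  have ha'mem : a' ∈ Kg S.f := class_mem hD hf S.model 34 (by norm_num)
  have hfix : ∀ x ∈ Kg S.f, x ∈ fixOf S.s := fun x hx =>
    S.Ig_le_fix (Kg_le_Ig hD hf S.model hinj hrange hβ hx)
  have hpt : ∃ i, S.mem i = a' := S.exists_mem (el_mem hD hf S.model (comp_wok (by norm_num)))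
  obtain ⟨i, hi⟩ := hpt
  have hifix : S.ψ S.s i = i := (S.mem_fixOf_iff _ i).1 (hi ▸ hfix _ ha'mem)
  obtain ⟨h, hh, hhi⟩ := S.exists_Ig_orbit hifix
  have hha : h * S.a * h⁻¹ = a' := by rw [← S.mem_pa, S.conj, hhi, hi]
  set C' := fixOf S.s ⊓ Subgroup.centralizer ({a'} : Set G) with hC'
  have hmap : C.map (MulAut.conj h).toMonoidHom = C' := by
    ext x
    constructor
    · rintro ⟨y, ⟨hy1, hy2⟩, rfl⟩
      refine ⟨?_, ?_⟩
      · show h * y * h⁻¹ ∈ fixOf S.s
        exact mul_mem (mul_mem (S.Ig_le_fix hh) hy1) (inv_mem (S.Ig_le_fix hh))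
      · refine Subgroup.mem_centralizer_singleton_iff.2 ?_
        have h3 : Commute y S.a := Subgroup.mem_centralizer_singleton_iff.1 hy2
        have h4 := h3.map (MulAut.conj h).toMonoidHom
        rw [← hha]
        simpa using h4.eq
    · rintro ⟨hx1, hx2⟩
      refine ⟨h⁻¹ * x * h, ⟨(fixOf S.s).mul_mem ((fixOf S.s).mul_mem ((fixOf S.s).inv_mem (S.Ig_le_fix hh)) hx1) (S.Ig_le_fix hh), ?_⟩,
        by simp [mul_assoc]⟩
      refine Subgroup.mem_centralizer_singleton_iff.2 ?_
      have h3 : Commute x (h * S.a * h⁻¹) := by rw [hha]; exact Subgroup.mem_centralizer_singleton_iff.1 hx2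
      have h4 := h3.map (MulAut.conj h⁻¹).toMonoidHom
      simpa [mul_assoc] using h4.eq
  let e1 : C ≃* C' := (C.equivMapOfInjective _ (MulAut.conj h).injective).trans (MulEquiv.subgroupCongr hmap)
  have hcard' : Nat.card C' = 2903040 := by
    rw [← Nat.card_congr e1.toEquiv]; exact S.card_fix_one hD hf
  -- the stabiliser of w
  let j : St →* C' := (β.comp St.subtype).codRestrict C' fun o =>
    ⟨hfix _ (hrange ▸ ⟨(o : Orth8), rfl⟩),
      Subgroup.mem_centralizer_singleton_iff.2 ((S.mem_St_iff hD hf hinj hrange hβ o).1 o.2).eq⟩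
  have hj : Function.Injective j := fun x y hxy => Subtype.ext (hinj (congrArg Subtype.val hxy))
  let χ : St →* Matrix.symplecticGroup (Fin 3) (ZMod 2) × (Orth8 ⧸ Om) :=
    projHom.prod ((QuotientGroup.mk' Om).comp St.subtype)
  have hcardq : Nat.card (Orth8 ⧸ Om) = 2 := by rw [← Subgroup.index_eq_card]; exact index_om
  have hge : 2903040 ≤ Nat.card St := by
    let act : MulAction (Kg S.f) Pt := MulAction.compHom Pt (S.π.comp (Kg S.f).subtype)
    have horb : @MulAction.orbit _ _ act.toSMul i ⊆ Set.range fun q : Fin 120 => toPt (pt (cp q)) := by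
      rintro _ ⟨g, rfl⟩
      obtain ⟨o, ho⟩ : (g : G) ∈ β.range := by rw [hrange]; exact g.2
      obtain ⟨q', hq', e, -⟩ := S.equivariant hD hf hinj hrange hβ o 34 (by norm_num)
      refine ⟨⟨q', hq'⟩, ?_⟩
      show toPt (pt (cp q')) = S.π g i
      have hc := S.conj (g : G) i
      rw [hi, ← ho, ha', e, ho] at hc
      have hwok := comp_wok hq'
      have hlt : pt (cp q') < 3510 := by
        have : ∀ q < 120, pt (cp q) < 3510 := by decide +kernel
        exact this q' hq'
      exact S.mem_injective (by rw [← S.el_mem_pt hwok hlt, hc])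
    have hle : (@MulAction.orbit _ _ act.toSMul i).ncard ≤ 120 :=
      (Set.ncard_le_ncard horb (Set.finite_range _)).trans (by rw [← Set.image_univ]; exact (Set.ncard_image_le (Set.toFinite _)).trans (by simp))
    have h1 := (@MulAction.stabilizer _ _ _ act i).card_mul_index
    rw [MulAction.index_stabilizer, card_Kg hD hf S.model hinj hrange hβ] at h1
    have h2 : Nat.card (@MulAction.stabilizer _ _ _ act i) ≤ Nat.card St := by
      have hex : ∀ g : @MulAction.stabilizer _ _ _ act i, ∃ o : St, β o = (g : Kg S.f) := fun g => by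
        obtain ⟨o, ho⟩ : ((g : Kg S.f) : G) ∈ β.range := by rw [hrange]; exact (g : Kg S.f).2
        refine ⟨⟨o, (S.mem_St_iff hD hf hinj hrange hβ o).2 ?_⟩, ho⟩
        have hg : S.π ((g : Kg S.f) : G) i = i := g.2
        have hc := S.conj ((g : Kg S.f) : G) i
        rw [hg, hi, ← ho] at hc
        exact mul_inv_eq_iff_eq_mul.1 hc
      choose F hF using hex
      refine Nat.card_le_card_of_injective F fun x y hxy => Subtype.ext (Subtype.ext ?_)
      rw [← hF x, ← hF y, hxy]
    nlinarith
  obtain ⟨o₁, ho₁, ho₁'⟩ : ∃ o₁ : St, projHom o₁ = 1 ∧ (o₁ : Orth8) ∉ Om := by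
    obtain ⟨c, hc⟩ : el S.f (cp 34) ∈ β.range := hrange ▸ ha'mem
    obtain ⟨k, hk⟩ : ∃ k : Orth8, OrthH1.isoMat k *ᵥ vecq 0 = wv := by
      obtain ⟨g, hg, hgi⟩ : ∃ g ∈ Kg S.f, g * el S.f (cp 0) * g⁻¹ = el S.f (cp 34) := by
        have hstep : ∀ q, q < 120 → ∃ g ∈ Kg S.f, g * el S.f (cp 0) * g⁻¹ = el S.f (cp q) := by
          intro q
          induction q using Nat.strongRecOn with
          | _ q IH =>
            intro hq
            rcases Nat.eq_zero_or_pos q with rfl | hpos
            · exact ⟨1, one_mem _, by simp⟩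
            · have h := List.all_eq_true.1 parent_ok.2 q (List.mem_range.2 hq)
              have hne : Nat.beq q 0 = false := by
                rw [Bool.eq_false_iff]; exact fun e => by have := Nat.eq_of_beq_eq_true e; omega
              simp only [hne, Bool.false_or, Bool.and_eq_true, Nat.blt_eq] at h
              obtain ⟨⟨hj', hlt⟩, he⟩ := h
              obtain ⟨g, hg, hge'⟩ := IH _ hlt (hlt.trans hq)
              rw [← Nat.eq_of_beq_eq_true he, ← action hD hf S.model hj' (hlt.trans hq), ← hge']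
              exact ⟨_, mul_mem (Subgroup.subset_closure ⟨_, hj', rfl⟩) hg, by group⟩
        exact hstep 34 (by norm_num)
      obtain ⟨k, hk⟩ : g ∈ β.range := hrange ▸ hg
      obtain ⟨q', hq', e1, e2⟩ := S.equivariant hD hf hinj hrange hβ k 0 (by norm_num)
      rw [hk, hgi] at e1
      refine ⟨k, ?_⟩
      rw [e2, ← class_injective hD hf S.model (by norm_num) hq' e1]
      rfl
    refine ⟨⟨k * rho 0 * k⁻¹, ?_⟩, projHom_conj_rho hk rfl, ?_⟩
    · have hr : OrthH1.isoMat (rho 0) *ᵥ vecq 0 = vecq 0 := by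
        rw [rho_zero_apply]
        funext i
        simp [bil_vecq_zero]
      have hki : OrthH1.isoMat k⁻¹ *ᵥ wv = vecq 0 := by
        rw [← hk, Matrix.mulVec_mulVec, ← OrthH1.isoMat_mul, inv_mul_cancel]
        simp [OrthH1.isoMat]
      show OrthH1.isoMat (k * rho 0 * k⁻¹) *ᵥ wv = wv
      rw [OrthH1.isoMat_mul, OrthH1.isoMat_mul, ← Matrix.mulVec_mulVec, ← Matrix.mulVec_mulVec, hki, hr, hk]
    · intro hmem
      have hn : Om.Normal := (inferInstance : (commutator Orth8).Normal)
      have h0 : rho 0 ∈ Om := by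
        have := hn.conj_mem _ hmem k⁻¹
        simpa [mul_assoc] using this
      have hle : Kg S.f ≤ Om.map β := by
        refine (Subgroup.closure_le _).2 ?_
        rintro _ ⟨j', hj', rfl⟩
        have h1 := gen_pair hD hf S.model hinj hrange hβ hj' (show 0 < 8 by norm_num)
        have h2 : el S.f (gp 0) ∈ Om.map β := ⟨rho 0, h0, hβ 0 (by norm_num)⟩
        have := mul_mem h1 (inv_mem h2)
        simpa using this
      have hh := Subgroup.card_le_of_le hle
      rw [card_Kg hD hf S.model hinj hrange hβ, card_map_om hD hf S.model hinj hrange hβ] at hh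
      omega
  have hχ : Function.Injective χ := by
    rw [injective_iff_map_eq_one]
    intro o ho
    have h1 : projHom o = 1 := congrArg Prod.fst ho
    have h2 : (o : Orth8) ∈ Om := (QuotientGroup.eq_one_iff _).1 (congrArg Prod.snd ho :)
    by_contra hne
    have hne1 : o₁ ≠ 1 := fun e => ho₁' (e ▸ one_mem _)
    exact ho₁' (eq_of_proj ho₁ h1 hne1 hne ▸ h2)
  have hle : Nat.card St ≤ 2903040 := by
    refine (Nat.card_le_card_of_injective χ hχ).trans ?_
    rw [Nat.card_prod, card_sp, hcardq]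
  have hSt : Nat.card St = 2903040 := le_antisymm hle hge
  let eJ : St ≃* C' := MulEquiv.ofBijective j
    ((Nat.bijective_iff_injective_and_card _).2 ⟨hj, hSt.trans hcard'.symm⟩)
  let eχ : St ≃* Matrix.symplecticGroup (Fin 3) (ZMod 2) × (Orth8 ⧸ Om) := MulEquiv.ofBijective χ
    ((Nat.bijective_iff_injective_and_card _).2 ⟨hχ, by rw [Nat.card_prod, card_sp, hcardq, hSt]⟩)
  let eP : Matrix.symplecticGroup (Fin 3) (ZMod 2) ≃* Cfsg.PSp 3 (ZMod 2) :=
    ((QuotientGroup.quotientMulEquivOfEq center_sp).trans QuotientGroup.quotientBot).symm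
  let eZ : Orth8 ⧸ Om ≃* Multiplicative (ZMod 2) :=
    mulEquivOfPrimeCardEq (p := 2) hcardq (by simp [Nat.card_eq_fintype_card])
  exact ⟨e1.trans (eJ.symm.trans (eχ.trans ((eP.prodCongr eZ).trans MulEquiv.prodComm)))⟩

end Beta

theorem Setup.iso_fix_one : Nonempty (↥(fixOf S.s ⊓ Subgroup.centralizer ({S.a} : Set G)) ≃*
    Multiplicative (ZMod 2) × Cfsg.PSp 3 (ZMod 2)) := by
  obtain ⟨β, hinj, hrange, hβ⟩ := exists_orth hD hf S.model
  exact S.iso_centralizer hD hf hinj hrange hβ

end Cfsg.Agent.Lib.M22Outer
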