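import Cfsg.Agent.Lib.M22Outer.FirstTwo
import Cfsg.Agent.Lib.Classical.Symplectic

/-!
# The centraliser of a member in the first fixed subgroup is 2 × PSp(6,2)

The stabiliser in O⁺(8,2) of the vector `w = e₀ + f₀` acts on `w^⊥ / w`, and the class modulo Ω splits off
the reflection in `w`.
-/

set_option autoImplicit false
set_option linter.unusedSectionVars false

namespace Cfsg.Agent.Lib.M22Outer

open Cfsg Cfsg.Agent.Lib.CosetTable Cfsg.Agent.Lib.Fischer3T.Triality
open Cfsg.Agent.Lib.M22Struct66 (Charted Counted)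
open scoped Matrix

/-- The vector `e₀ + f₀`. -/
def wv : Fin 4 ⊕ Fin 4 → ZMod 2 := vecq 34

theorem wv_apply : ∀ i : Fin 4 ⊕ Fin 4, wv i = if i = .inl 0 ∨ i = .inr 0 then 1 else 0 := by decide +kernel

/-- The index of a coordinate of the symplectic quotient. -/
def emb : Fin 3 ⊕ Fin 3 → Fin 4 ⊕ Fin 4 := Sum.map Fin.succ Fin.succ

theorem emb_injective : Function.Injective emb := by decide

/-- The stabiliser of `w`. -/
def St : Subgroup Orth8 where
  carrier := {o | OrthH1.isoMat o *ᵥ wv = wv}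
  one_mem' := by simp [OrthH1.isoMat]
  mul_mem' := fun {x y} hx hy => by
    show OrthH1.isoMat (x * y) *ᵥ wv = wv
    rw [OrthH1.isoMat_mul, ← Matrix.mulVec_mulVec, hy, hx]
  inv_mem' := fun {x} hx => by
    show OrthH1.isoMat x⁻¹ *ᵥ wv = wv
    conv_lhs => rw [← hx]
    rw [Matrix.mulVec_mulVec, ← OrthH1.isoMat_mul, inv_mul_cancel]
    simp [OrthH1.isoMat]

/-- The bilinear form of the hyperbolic form. -/
def bil (u v : Fin 4 ⊕ Fin 4 → ZMod 2) : ZMod 2 := ∑ i : Fin 4, (u (.inl i) * v (.inr i) + v (.inl i) * u (.inr i))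

theorem bil_eq (u v : Fin 4 ⊕ Fin 4 → ZMod 2) :
    quadFormPlus 4 (ZMod 2) (u + v) = quadFormPlus 4 (ZMod 2) u + quadFormPlus 4 (ZMod 2) v + bil u v := by
  simp only [quadFormPlus, bil, Pi.add_apply, ← Finset.sum_add_distrib]
  exact Finset.sum_congr rfl fun i _ => by ring

theorem preserved (o : Orth8) (u : Fin 4 ⊕ Fin 4 → ZMod 2) :
    quadFormPlus 4 (ZMod 2) (OrthH1.isoMat o *ᵥ u) = quadFormPlus 4 (ZMod 2) u :=
  OrthH1.isoMat_preserves (Q := quadFormPlus 4 (ZMod 2)) o u

theorem q_emb (j : Fin 3 ⊕ Fin 3) : quadFormPlus 4 (ZMod 2) (Pi.single (emb j) 1) = 0 := by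
  revert j; decide +kernel

theorem bil_preserved (o : Orth8) (u v : Fin 4 ⊕ Fin 4 → ZMod 2) :
    bil (OrthH1.isoMat o *ᵥ u) (OrthH1.isoMat o *ᵥ v) = bil u v := by
  have h := bil_eq (OrthH1.isoMat o *ᵥ u) (OrthH1.isoMat o *ᵥ v)
  rw [← Matrix.mulVec_add, preserved, preserved, preserved, bil_eq] at h
  exact (add_left_cancel h).symm

theorem col_eq (o : Orth8) (k : Fin 4 ⊕ Fin 4) :
    OrthH1.isoMat o *ᵥ Pi.single k 1 = fun i => OrthH1.isoMat o i k := by
  funext i
  rw [Matrix.mulVec_single_one]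
  rfl

theorem bil_wv (u : Fin 4 ⊕ Fin 4 → ZMod 2) : bil u wv = u (.inl 0) + u (.inr 0) := by
  simp only [bil, Fin.sum_univ_four, wv_apply]
  simp

theorem eq_of_add_eq_zero' : ∀ a b : ZMod 2, a + b = 0 → a = b := by decide

theorem col_zero {o : Orth8} (ho : o ∈ St) (j : Fin 3 ⊕ Fin 3) :
    OrthH1.isoMat o (.inl 0) (emb j) = OrthH1.isoMat o (.inr 0) (emb j) := by
  refine eq_of_add_eq_zero' _ _ ?_
  have h := bil_preserved o (Pi.single (emb j) 1) wv
  rw [show OrthH1.isoMat o *ᵥ wv = wv from ho, col_eq, bil_wv, bil_wv] at h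
  rw [h]
  rcases j with i | i <;> simp [emb, Pi.single_apply]

theorem row_zero {o : Orth8} (ho : o ∈ St) (i : Fin 3 ⊕ Fin 3) :
    OrthH1.isoMat o (emb i) (.inl 0) = OrthH1.isoMat o (emb i) (.inr 0) := by
  refine eq_of_add_eq_zero' _ _ ?_
  have h := congrFun (show OrthH1.isoMat o *ᵥ wv = wv from ho) (emb i)
  simp only [Matrix.mulVec, dotProduct, Fintype.sum_sum_type, Fin.sum_univ_four, wv_apply] at h
  rcases i with i | i <;> simpa [emb, Fin.succ_ne_zero] using h

/-- The matrix on `w^⊥ / w`. -/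
def proj (o : Orth8) : Matrix (Fin 3 ⊕ Fin 3) (Fin 3 ⊕ Fin 3) (ZMod 2) :=
  Matrix.of fun i j => OrthH1.isoMat o (emb i) (emb j)

theorem proj_mul {x y : Orth8} (hx : x ∈ St) (hy : y ∈ St) : proj (x * y) = proj x * proj y := by
  ext i j
  simp only [proj, Matrix.of_apply, OrthH1.isoMat_mul, Matrix.mul_apply, Fintype.sum_sum_type,
    Fin.sum_univ_succ (n := 3)]
  have e1 := row_zero hx i
  have e2 := col_zero hy j
  have key : ∀ a b s t : ZMod 2, a * b + s + (a * b + t) = s + t := by decide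
  simp only [emb, Sum.map_inl, Sum.map_inr] at *
  rw [e1, e2, key]

theorem proj_mem {o : Orth8} (ho : o ∈ St) : proj o ∈ Matrix.symplecticGroup (Fin 3) (ZMod 2) := by
  rw [SymplecticGroup.mem_iff']
  ext j l
  have h := bil_preserved o (Pi.single (emb j) 1) (Pi.single (emb l) 1)
  rw [col_eq, col_eq] at h
  have e1 := col_zero ho j
  have e2 := col_zero ho l
  have hJ : ∀ j l : Fin 3 ⊕ Fin 3, Matrix.J (Fin 3) (ZMod 2) j l = bil (Pi.single (emb j) 1) (Pi.single (emb l) 1) := by
    intro j l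
    rcases j with j | j <;> rcases l with l | l <;> fin_cases j <;> fin_cases l <;> decide +kernel
  rw [hJ j l, ← h]
  simp only [bil, Matrix.mul_apply, Matrix.transpose_apply, proj, Matrix.of_apply, Fintype.sum_sum_type,
    Fin.sum_univ_succ (n := 3), Fin.sum_univ_three, Matrix.J, Matrix.fromBlocks_apply₁₁, Matrix.fromBlocks_apply₁₂,
    Matrix.fromBlocks_apply₂₁, Matrix.fromBlocks_apply₂₂, Matrix.zero_apply, Matrix.neg_apply, Matrix.one_apply,
    emb, Sum.map_inl, Sum.map_inr]
  simp only [emb, Sum.map_inl, Sum.map_inr] at e1 e2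
  have k4 : (4 : ZMod 2) = 0 := by decide
  simp [e1, e2, ZMod.neg_eq_self_mod_two, Fin.succ_ne_zero]
  ring_nf
  simp [k4]
  exact Or.inr (by decide)

/-- The action on `w^⊥ / w`. -/
def projHom : St →* Matrix.symplecticGroup (Fin 3) (ZMod 2) where
  toFun o := ⟨proj o, proj_mem o.2⟩
  map_one' := Subtype.ext (by
    ext i j
    simp [proj, OrthH1.isoMat, Matrix.one_apply, emb_injective.eq_iff])
  map_mul' x y := Subtype.ext (proj_mul x.2 y.2)

theorem eq_one_of_fix_basis {o : Orth8} (h : ∀ k, OrthH1.isoMat o *ᵥ Pi.single k 1 = Pi.single k 1) : o = 1 := by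
  refine OrthH1.iso_ext (Matrix.ext fun i k => ?_)
  have := congrFun (h k) i
  rw [col_eq] at this
  simpa [Matrix.one_apply, Pi.single_apply, OrthH1.isoMat] using this

/-- An element acting trivially on `w^⊥ / w` fixes the other basis vectors. -/
theorem fix_emb {o : St} (h : projHom o = 1) (j : Fin 3 ⊕ Fin 3) :
    OrthH1.isoMat (o : Orth8) *ᵥ Pi.single (emb j) 1 = Pi.single (emb j) 1 := by
  have hp : ∀ i, OrthH1.isoMat (o : Orth8) (emb i) (emb j) = if i = j then 1 else 0 := fun i => by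
    have := congrFun (congrFun (congrArg Subtype.val h) i) j
    simpa [projHom, proj, Matrix.one_apply] using this
  have hq := preserved (o : Orth8) (Pi.single (emb j) 1)
  rw [col_eq] at hq ⊢
  have e := col_zero o.2 j
  have hQ := q_emb j
  rw [hQ] at hq
  simp only [quadFormPlus, Fin.sum_univ_succ (n := 3)] at hq
  have hl : ∀ i : Fin 3, OrthH1.isoMat (o : Orth8) (.inl i.succ) (emb j) = if Sum.inl i = j then 1 else 0 :=
    fun i => hp (.inl i)
  have hr : ∀ i : Fin 3, OrthH1.isoMat (o : Orth8) (.inr i.succ) (emb j) = if Sum.inr i = j then 1 else 0 :=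
    fun i => hp (.inr i)
  have h0 : OrthH1.isoMat (o : Orth8) (.inr 0) (emb j) = 0 := by
    have hz : ∑ i : Fin 3, (OrthH1.isoMat (o : Orth8) (.inl i.succ) (emb j)) *
        OrthH1.isoMat (o : Orth8) (.inr i.succ) (emb j) = 0 :=
      Finset.sum_eq_zero fun i _ => by
        rw [hl, hr]
        rcases j with j | j <;> simp
    rw [hz, add_zero, e] at hq
    revert hq
    generalize OrthH1.isoMat (o : Orth8) (.inr 0) (emb j) = a
    revert a; decide
  funext i
  rcases i with i | i <;> refine Fin.cases ?_ (fun i => ?_) i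
  · have := e.trans h0
    rcases j with j | j <;> simpa [emb, Pi.single_apply] using this
  · rw [hl]; rcases j with j | j <;> simp [emb, Pi.single_apply, eq_comm]
  · rcases j with j | j <;> simpa [emb, Pi.single_apply] using h0
  · rw [hr]; rcases j with j | j <;> simp [emb, Pi.single_apply, eq_comm]

/-- The kernel of the action has at most two elements. -/
theorem eq_of_proj {x y : St} (hx : projHom x = 1) (hy : projHom y = 1) (hx1 : x ≠ 1) (hy1 : y ≠ 1) : x = y := by
  have key : ∀ o : St, projHom o = 1 → o ≠ 1 →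
      OrthH1.isoMat (o : Orth8) *ᵥ Pi.single (.inl 0) 1 = Pi.single (.inr 0) 1 ∧
      OrthH1.isoMat (o : Orth8) *ᵥ Pi.single (.inr 0) 1 = Pi.single (.inl 0) 1 := by
    intro o ho h1
    set u := OrthH1.isoMat (o : Orth8) *ᵥ Pi.single (.inl 0) 1 with hu
    set v := OrthH1.isoMat (o : Orth8) *ᵥ Pi.single (.inr 0) 1 with hv
    have huv : u + v = wv := by
      have hw : (Pi.single (.inl 0) 1 + Pi.single (.inr 0) 1 : Fin 4 ⊕ Fin 4 → ZMod 2) = wv := by decide +kernel
      rw [hu, hv, ← Matrix.mulVec_add, hw]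
      exact o.2
    have horth : ∀ j, bil u (Pi.single (emb j) 1) = 0 := fun j => by
      rw [hu, ← fix_emb ho j, bil_preserved]
      revert j; decide +kernel
    have hzero : ∀ i : Fin 3, u (.inl i.succ) = 0 ∧ u (.inr i.succ) = 0 := fun i => by
      have hl := horth (.inl i)
      have hr := horth (.inr i)
      simp only [bil, Fin.sum_univ_succ (n := 3), emb, Sum.map_inl, Sum.map_inr] at hl hr
      simp [Fin.succ_ne_zero, Pi.single_apply] at hl hr
      exact ⟨hr, hl⟩
    have hQ : quadFormPlus 4 (ZMod 2) u = 0 := by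
      rw [hu, preserved]; decide +kernel
    have hB : bil u v = 1 := by rw [hu, hv, bil_preserved]; decide +kernel
    have hv0 : ∀ k, v k = wv k + u k := fun k => by
      have := congrFun huv k
      have key : ∀ a b c : ZMod 2, a + b = c → b = c + a := by decide
      exact key _ _ _ (by rw [← this]; rfl)
    have hB' : u (.inl 0) * v (.inr 0) + v (.inl 0) * u (.inr 0) = 1 := by
      have hv' : ∀ i : Fin 3, v (.inl i.succ) = 0 ∧ v (.inr i.succ) = 0 := fun i => by
        constructor <;> rw [hv0] <;> simp [wv_apply, (hzero i).1, (hzero i).2, Fin.succ_ne_zero]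
      simpa [bil, Fin.sum_univ_succ (n := 3), hzero, hv'] using hB
    have hQ' : u (.inl 0) * u (.inr 0) = 0 := by simpa [quadFormPlus, Fin.sum_univ_succ (n := 3), hzero] using hQ
    rw [hv0 (.inr 0), hv0 (.inl 0), wv_apply, wv_apply] at hB'
    simp only [or_true, true_or, if_true] at hB'
    have hcases : ∀ a b : ZMod 2, a * b = 0 → a * (1 + b) + (1 + a) * b = 1 → (a = 1 ∧ b = 0) ∨ (a = 0 ∧ b = 1) := by
      decide
    rcases hcases _ _ hQ' hB' with ⟨ha, hb⟩ | ⟨ha, hb⟩
    · exfalso
      refine h1 (Subtype.ext (eq_one_of_fix_basis ?_))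
      rintro (i | i) <;> refine Fin.cases ?_ (fun i => ?_) i
      · show u = _
        funext k
        rcases k with k | k <;> refine Fin.cases ?_ (fun k => ?_) k <;> simp [ha, hb, hzero, Fin.succ_ne_zero]
      · exact fix_emb ho (.inl i)
      · show v = _
        funext k
        rw [hv0]
        rcases k with k | k <;> refine Fin.cases ?_ (fun k => ?_) k <;>
          simp [ha, hb, hzero, wv_apply, Fin.succ_ne_zero]
        decide
      · exact fix_emb ho (.inr i)
    · constructor
      · funext k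
        rcases k with k | k <;> refine Fin.cases ?_ (fun k => ?_) k <;> simp [ha, hb, hzero, Fin.succ_ne_zero]
      · funext k
        rw [hv0]
        rcases k with k | k <;> refine Fin.cases ?_ (fun k => ?_) k <;>
          simp [ha, hb, hzero, wv_apply, Fin.succ_ne_zero]
        decide
  refine Subtype.ext (OrthH1.iso_ext (Matrix.ext fun i k => ?_))
  have hk : OrthH1.isoMat (x : Orth8) *ᵥ Pi.single k 1 = OrthH1.isoMat (y : Orth8) *ᵥ Pi.single k 1 := by
    rcases k with k | k
    · refine Fin.cases ?_ (fun k => ?_) k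
      · rw [(key x hx hx1).1, (key y hy hy1).1]
      · exact (fix_emb hx (.inl k)).trans (fix_emb hy (.inl k)).symm
    · refine Fin.cases ?_ (fun k => ?_) k
      · rw [(key x hx hx1).2, (key y hy hy1).2]
      · exact (fix_emb hx (.inr k)).trans (fix_emb hy (.inr k)).symm
  rw [col_eq, col_eq] at hk
  exact congrFun hk i

/-- The reflection formula of the first generator. -/
theorem rho_zero_formula : ∀ n < 256, OrthH1.dec OrthH1.F4.idx
      (OrthH1.refl OrthH1.F4.cert.qt (OrthH1.F4.cert.A.getD 0 0) n) =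
    fun i => OrthH1.dec OrthH1.F4.idx n i + bil (OrthH1.dec OrthH1.F4.idx n) (vecq 0) * vecq 0 i := by
  decide +kernel

theorem rho_zero_apply (u : Fin 4 ⊕ Fin 4 → ZMod 2) :
    OrthH1.isoMat (rho 0) *ᵥ u = fun i => u i + bil u (vecq 0) * vecq 0 i := by
  obtain ⟨n, hn, rfl⟩ := OrthH1.dec_surj OrthH1.F4.idx u
  rw [← rho_zero_formula n hn, rho, OrthH1.sgen, dif_pos (A_mem (by norm_num))]
  exact (OrthH1.exists_refl OrthH1.F4.cert _ (A_mem (by norm_num))).choose_spec _ hn

/-- A conjugate of the first generator fixing `w` acts trivially on the quotient. -/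
theorem projHom_conj_rho {c : Orth8} (hc : OrthH1.isoMat c *ᵥ vecq 0 = wv) {o : St} (ho : (o : Orth8) = c * rho 0 * c⁻¹) :
    projHom o = 1 := by
  have hform : ∀ u, OrthH1.isoMat (o : Orth8) *ᵥ u = fun i => u i + bil u wv * wv i := by
    intro u
    set u' := OrthH1.isoMat c⁻¹ *ᵥ u with hu'
    have hu : OrthH1.isoMat c *ᵥ u' = u := by
      rw [hu', Matrix.mulVec_mulVec, ← OrthH1.isoMat_mul, mul_inv_cancel]; simp [OrthH1.isoMat]
    rw [ho, OrthH1.isoMat_mul, OrthH1.isoMat_mul, ← Matrix.mulVec_mulVec, ← Matrix.mulVec_mulVec, ← hu',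
      rho_zero_apply,
      show (fun i => u' i + bil u' (vecq 0) * vecq 0 i) = u' + bil u' (vecq 0) • vecq 0 from rfl,
      Matrix.mulVec_add, Matrix.mulVec_smul, hu, hc, ← bil_preserved c, hu, hc]
    rfl
  refine Subtype.ext (Matrix.ext fun i j => ?_)
  have := congrFun (hform (Pi.single (emb j) 1)) (emb i)
  simp only [col_eq] at this
  show OrthH1.isoMat (o : Orth8) (emb i) (emb j) = (1 : Matrix _ _ (ZMod 2)) i j
  rw [this, bil_wv]
  rcases j with j | j <;> rcases i with i | i <;> simp [emb, Pi.single_apply, Matrix.one_apply, eq_comm]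

end Cfsg.Agent.Lib.M22Outer
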