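import Cfsg.Agent.Lib.M22Outer.Checks

/-!
# The tables as automorphisms
-/

set_option autoImplicit false

namespace Cfsg.Agent.Lib.M22Outer

open Cfsg.Agent.Lib.CosetTable Cfsg.Agent.Lib.Fischer3T.Triality
open Cfsg.Agent.Lib.Compute Cfsg.Agent.Lib.Compute.Big

theorem toPt_lt {i : ℕ} (h : i < Fi22a.tab.n) : ((toPt i : Pt) : ℕ) = i := Nat.mod_eq_of_lt h

theorem pt_lt (i : Pt) : (i : ℕ) < 3510 := lt_of_lt_of_eq i.isLt n_eq

theorem sI_spec {x : ℕ} (hx : x < 3510) : sI x < 3510 ∧ sI (sI x) = x := by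
  have h := List.all_eq_true.1 sI_ok x (List.mem_range.2 hx)
  rw [Bool.and_eq_true, Nat.blt_eq] at h
  exact ⟨h.1, Nat.eq_of_beq_eq_true h.2⟩

/-- The outer involution as a permutation. -/
noncomputable def sPerm : Equiv.Perm Pt :=
  Function.Involutive.toPerm (fun i : Pt => toPt (sI i)) fun i => Fin.ext (by
    show ((toPt (sI (toPt (sI i) : ℕ)) : Pt) : ℕ) = _
    rw [toPt_val (sI_spec (pt_lt i)).1, toPt_val]
    · exact (sI_spec (pt_lt i)).2
    · exact (sI_spec (sI_spec (pt_lt i)).1).1)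

theorem sPerm_val (i : Pt) : ((sPerm i : Pt) : ℕ) = sI i := toPt_val (sI_spec (pt_lt i)).1

variable {G : Type*} [Group G] {D : Set G} (S : Setup D)
include S

theorem Setup.exists_outer_involution : ∃ t : MulAut G, S.ψ t = sPerm := by
  refine S.exists_aut sPerm fun k hk => Equiv.ext fun i => Fin.ext ?_
  have h := List.all_eq_true.1 sGen_ok k (List.mem_range.2 hk)
  simp only [sGenOK, Bool.and_eq_true, List.all_eq_true, List.mem_range] at h
  obtain ⟨⟨hw, hp⟩, hall⟩ := h
  have hp' : pt (Data.sPath.getD k []) = ((sPerm (gpt k) : Pt) : ℕ) := by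
    rw [sPerm_val, gpt_val hk]; exact Nat.eq_of_beq_eq_true hp
  rw [← S.el_eq hw hp', Equiv.Perm.mul_apply, Equiv.Perm.mul_apply, sPerm_val, S.π_f hk, el,
    S.π_eval (wOK_mw hw), sPerm_val]
  exact Nat.eq_of_beq_eq_true (hall i (pt_lt i))

/-- The outer involution. -/
noncomputable def Setup.s : MulAut G := S.exists_outer_involution.choose

theorem Setup.ψ_s : S.ψ S.s = sPerm := S.exists_outer_involution.choose_spec

theorem Setup.ψ_s_val (i : Pt) : ((S.ψ S.s i : Pt) : ℕ) = sI i := by rw [S.ψ_s, sPerm_val]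

theorem Setup.s_mul_self : S.s * S.s = 1 := S.ψ_injective (by
  rw [map_mul, map_one, S.ψ_s]
  exact Equiv.ext fun i => Fin.ext (by
    rw [Equiv.Perm.mul_apply, sPerm_val, sPerm_val]
    exact (sI_spec (pt_lt i)).2))

theorem Setup.exists_inner {j : ℕ} (hj : j < 17) : ∃ g : G, ∀ i : Pt, ((S.π g i : Pt) : ℕ) = gI j i := by
  have h := List.all_eq_true.1 table_ok j (List.mem_range.2 hj)
  simp only [tableOK, Bool.and_eq_true, List.all_eq_true, List.mem_range, Nat.blt_eq] at h
  obtain ⟨g, hg⟩ := Compute.Big.exists_word Compute.Big.Fi22.letters_ok h.1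
  obtain ⟨x, hx⟩ := g.2
  refine ⟨S.e x, fun i => ?_⟩
  rw [Nat.eq_of_beq_eq_true (h.2 i (pt_lt i)), (hg i).1, ← hx]
  show ((Compute.Big.Fi22.phi (S.e.symm (S.e x)) i : Pt) : ℕ) = _
  rw [S.e.symm_apply_apply]

open scoped Classical in
/-- The inner elements. -/
noncomputable def Setup.gG (j : ℕ) : G := if h : j < 17 then (S.exists_inner h).choose else 1

theorem Setup.π_gG {j : ℕ} (hj : j < 17) (i : Pt) : ((S.π (S.gG j) i : Pt) : ℕ) = gI j i := by
  rw [Setup.gG, dif_pos hj]
  exact (S.exists_inner hj).choose_spec i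

/-- The inner elements as automorphisms. -/
noncomputable def Setup.gA (j : ℕ) : MulAut G := MulAut.conj (S.gG j)

theorem Setup.ψ_gA {j : ℕ} (hj : j < 17) (i : Pt) : ((S.ψ (S.gA j) i : Pt) : ℕ) = gI j i := by
  rw [Setup.gA, S.ψ_conj, S.π_gG hj]

/-- The product of the first `k` inner elements chosen by the digits of `m`. -/
noncomputable def Setup.evA : ℕ → ℕ → MulAut G
  | 0, _ => 1
  | k + 1, m => if bitAt k m then S.gA k * evA k m else evA k m

theorem Setup.ψ_evA : ∀ {k : ℕ}, k ≤ 17 → ∀ (m : ℕ) (i : Pt), ((S.ψ (S.evA k m) i : Pt) : ℕ) = ev k m i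
  | 0, _, m, i => by simp [Setup.evA, ev]
  | k + 1, hk, m, i => by
    have ih := ψ_evA (k := k) (by omega) m
    rw [show ev (k + 1) m i = forceNat (ev k m i) (fun y' => Bool.rec (motive := fun _ => ℕ) y' (gI k y')
      (bitAt k m)) from rfl, forceNat_eq]
    cases hb : bitAt k m with
    | false => rw [Setup.evA, hb, if_neg (by simp)]; exact ih i
    | true =>
      rw [Setup.evA, hb, if_pos rfl, map_mul, Equiv.Perm.mul_apply, S.ψ_gA (by omega), ih]

/-- An outer element of the 2-group. -/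
noncomputable def Setup.tA (m : ℕ) : MulAut G := S.evA 17 m * S.s

theorem Setup.ψ_tA (m : ℕ) (i : Pt) : ((S.ψ (S.tA m) i : Pt) : ℕ) = tm m i := by
  show _ = forceNat (sI i) _
  rw [forceNat_eq, Setup.tA, map_mul, Equiv.Perm.mul_apply, S.ψ_evA le_rfl, S.ψ_s_val]

/-- The generators of the 2-group. -/
noncomputable def Setup.genA (j : ℕ) : MulAut G := if j < 17 then S.gA j else S.s

theorem Setup.ψ_genA (j : ℕ) (i : Pt) : ((S.ψ (S.genA j) i : Pt) : ℕ) = genI j i := by
  unfold genI Setup.genA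
  cases hb : Nat.blt j 17 with
  | false =>
    have : ¬ j < 17 := fun h => by rw [← Nat.blt_eq, hb] at h; exact Bool.false_ne_true h
    rw [if_neg this]; exact S.ψ_s_val i
  | true => rw [Nat.blt_eq] at hb; rw [if_pos hb]; exact S.ψ_gA hb i

/-- Two automorphisms agreeing on the nine points are equal. -/
theorem Setup.ext_bpts {t u : MulAut G}
    (h : ∀ i : Pt, (i : ℕ) ∈ bpts → ((S.ψ t i : Pt) : ℕ) = ((S.ψ u i : Pt) : ℕ)) : t = u := by
  refine S.ext_base fun k hk => Fin.ext (h _ ?_)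
  rw [bpts_ok, Fischer3T.Triality.base, gpt_val hk]
  refine List.mem_map.2 ⟨_, ?_, rfl⟩
  rw [List.getD_eq_getElem _ _ (show k < Data.genPath.length by simpa [Fischer3T.Triality.Data.genPath] using hk)]
  exact List.getElem_mem _

end Cfsg.Agent.Lib.M22Outer
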