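import Cfsg.Agent.Lib.M22Outer.FirstTwo

/-!
# The order of the third fixed subgroup
-/

set_option autoImplicit false
set_option linter.unusedSectionVars false

namespace Cfsg.Agent.Lib.M22Outer

open Cfsg Cfsg.Agent.Lib.CosetTable Cfsg.Agent.Lib.Fischer3T.Triality
open Cfsg.Agent.Lib.M22Struct66 (Charted Counted)

variable {G : Type*} [Group G] [Finite G] {D : Set G} (S : Setup D)
  {F : Type} [Field F] [Fintype F] (hD : Charted D F) (hf : Counted D F)
include S hD hf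

/-- The common fixed elements centralising both members. -/
noncomputable def Setup.L2 : Subgroup G :=
  fixOf S.s ⊓ Subgroup.centralizer ({S.a} : Set G) ⊓ Subgroup.centralizer ({S.b} : Set G)

theorem Setup.el_nbA {p : List ℕ} (hp : p ∈ FixData.nbA) :
    el S.f p ∈ fixOf S.s ⊓ Subgroup.centralizer ({S.a} : Set G) := by
  have h := List.all_eq_true.1 nbA_ok p hp
  simp only [Bool.and_eq_true, Nat.blt_eq] at h
  have hab := paths_ab_ok
  rw [Bool.and_eq_true] at hab
  refine ⟨S.el_fix (c := 0) h.1.1.1.1 h.1.1.1.2 (Nat.eq_of_beq_eq_true h.1.1.2), ?_⟩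
  refine Subgroup.mem_centralizer_singleton_iff.2 ?_
  have hc : Commute (S.mem ptA) (S.mem (toPt (pt p))) := by
    rw [S.commute_iff, S.mem_pa]
    refine Fin.ext ?_
    rw [Setup.a, el, S.π_eval (wOK_mw hab.1), toPt_val h.1.1.1.2]
    exact Nat.eq_of_beq_eq_true h.1.2
  rw [S.el_mem_pt h.1.1.1.1 h.1.1.1.2]
  rw [S.mem_pa] at hc
  exact hc.symm.eq

theorem Setup.card_L2 : Nat.card S.L2 = 46080 := by
  set L := fixOf S.s ⊓ Subgroup.centralizer ({S.a} : Set G) with hL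
  let act : MulAction L Pt := MulAction.compHom Pt (S.π.comp L.subtype)
  have hok := orbB_ok
  simp only [orbOK, Bool.and_eq_true, List.all_eq_true, Nat.blt_eq] at hok
  have hlt : ∀ x ∈ FixData.orbB.map (fun e => pt e.1), x < 3510 := fun x hx => by
    obtain ⟨e, he, rfl⟩ := List.mem_map.1 hx
    exact (hok.1.2 e he).2
  have hab := paths_ab_ok
  rw [Bool.and_eq_true] at hab
  have horb : @MulAction.orbit _ _ act.toSMul ptB = toPt '' {x | x ∈ FixData.orbB.map fun e => pt e.1} := by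
    ext i
    constructor
    · rintro ⟨g, rfl⟩
      show S.π g ptB ∈ _
      have hfix : S.ψ S.s (S.π g ptB) = S.π g ptB := S.π_fix g.2.1
        (Fin.ext (by rw [S.ψ_s_val, ptB, toPt_val a_ok.2.2.2.2.2.2.2.1, a_ok.2.2.2.2.2.2.2.2.2.1]))
      have hga : (g : G) * S.a * (g : G)⁻¹ = S.a :=
        mul_inv_eq_iff_eq_mul.2 (Subgroup.mem_centralizer_singleton_iff.1 g.2.2)
      have hcomm : Commute S.a (S.mem (S.π g ptB)) := by
        rw [← S.conj, S.mem_pb, ← hga]
        exact S.commute_ab.map (MulAut.conj (g : G)).toMonoidHom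
      have hne : S.π g ptB ≠ ptA := fun h => S.a_ne_b (by
        have h2 := S.conj (g : G) ptB
        rw [h, S.mem_pb, S.mem_pa] at h2
        exact mul_left_cancel (mul_right_cancel (hga.trans h2.symm)))
      set x := S.π g ptB
      have h := List.all_eq_true.1 orbB_cover (x : ℕ) (List.mem_range.2 (pt_lt x))
      simp only [Bool.or_eq_true, List.any_eq_true] at h
      rcases h with ((h | h) | h) | ⟨e, he, h⟩
      · rw [← S.ψ_s_val, hfix] at h; simp at h
      · rw [← S.mem_pa, S.commute_iff, S.mem_pa] at hcomm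
        have := congrArg Fin.val hcomm
        rw [Setup.a, el, S.π_eval (wOK_mw hab.1)] at this
        rw [this] at h; simp at h
      · exact absurd (Fin.ext (by rw [ptA, toPt_val a_ok.2.2.2.2.2.2.1]; exact Nat.eq_of_beq_eq_true h)) hne
      · exact ⟨pt e.1, List.mem_map.2 ⟨e, he, rfl⟩, by rw [Nat.eq_of_beq_eq_true h, toPt_self]⟩
    · rintro ⟨x, hx, rfl⟩
      obtain ⟨e, he, rfl⟩ := List.mem_map.1 hx
      obtain ⟨j, hj, rfl⟩ := List.getElem_of_mem he
      obtain ⟨g, hg, hgi⟩ := S.exists_orbit orbB_ok (H := L) (fun p hp => S.el_nbA hD hf hp) j hj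
      refine ⟨⟨g, hg⟩, ?_⟩
      show S.π g ptB = _
      rw [a_ok.2.2.2.2.2.1] at hgi
      rw [ptB, hgi, opath, List.getD_eq_getElem _ _ hj]
  have hst : Nat.card S.L2 = Nat.card (@MulAction.stabilizer _ _ _ act ptB) := by
    refine Nat.card_congr ⟨fun g => ⟨⟨g.1, g.2.1⟩, ?_⟩, fun g => ⟨g.1.1, g.1.2, ?_⟩, fun g => rfl, fun g => rfl⟩
    · refine S.mem_injective ?_
      show S.mem (S.π g.1 ptB) = _
      rw [← S.conj, S.mem_pb]
      exact mul_inv_eq_iff_eq_mul.2 (Subgroup.mem_centralizer_singleton_iff.1 g.2.2)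
    · refine Subgroup.mem_centralizer_singleton_iff.2 (mul_inv_eq_iff_eq_mul.1 ?_)
      have h : S.π g.1.1 ptB = ptB := g.2
      rw [← S.mem_pb, S.conj, h]
  have h := (@MulAction.stabilizer _ _ _ act ptB).card_mul_index
  rw [MulAction.index_stabilizer, horb, ncard_toPt_image orbit_lengths.2.2.2.2.1 hlt, List.length_map,
    orbit_lengths.2.1, S.card_fix_one hD hf] at h
  omega

theorem Setup.fix_two_eq {g : G} (hg : g ∈ fixOf (S.rep 2)) (hga : Commute g S.a) :
    g ∈ S.L2 := by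
  obtain ⟨h, hh, hhb⟩ := S.exists_Ig_orbit (i := ptB) (Fin.ext (by
    rw [S.ψ_s_val, ptB, toPt_val a_ok.2.2.2.2.2.2.2.1, a_ok.2.2.2.2.2.2.2.2.2.1]))
  have hsh : S.s h = h := mem_fixOf.1 (S.Ig_le_fix hh)
  have hb : h * S.a * h⁻¹ = S.b := by rw [← S.mem_pa, S.conj, hhb, S.mem_pb]
  have hs : S.s (S.a * S.b * g * (S.a * S.b)⁻¹) = g := hg
  have e : S.s (S.b * g * S.b⁻¹) = g := by
    have e1 : S.a * S.b * g * (S.a * S.b)⁻¹ = S.b * g * S.b⁻¹ := by
      rw [S.commute_ab.eq, show S.b * S.a * g * (S.b * S.a)⁻¹ = S.b * (S.a * g * S.a⁻¹) * S.b⁻¹ by group,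
        ← hga.eq, mul_inv_cancel_right]
    rwa [e1] at hs
  have e2 : h⁻¹ * g * h ∈ fixOf (S.rep 1) := by
    show S.s (S.a * (h⁻¹ * g * h) * S.a⁻¹) = h⁻¹ * g * h
    rw [show S.a * (h⁻¹ * g * h) * S.a⁻¹ = h⁻¹ * ((h * S.a * h⁻¹) * g * (h * S.a * h⁻¹)⁻¹) * h by group, hb,
      map_mul, map_mul, map_inv, hsh, e]
  obtain ⟨h1, h2⟩ := (S.mem_fix_one hD hf).1 e2
  have h1' : g ∈ fixOf S.s := by
    have := mul_mem (mul_mem (S.Ig_le_fix hh) h1) (inv_mem (S.Ig_le_fix hh))
    simpa [mul_assoc] using this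
  refine ⟨⟨h1', Subgroup.mem_centralizer_singleton_iff.2 hga.eq⟩, ?_⟩
  refine Subgroup.mem_centralizer_singleton_iff.2 ?_
  have h3 : Commute (h⁻¹ * g * h) S.a := Subgroup.mem_centralizer_singleton_iff.1 h2
  have h4 := h3.map (MulAut.conj h).toMonoidHom
  rw [← hb]
  simpa [mul_assoc] using h4.eq

theorem Setup.L2_le_fix : S.L2 ≤ fixOf (S.rep 2) := by
  intro g hg
  have hga : Commute g S.a := Subgroup.mem_centralizer_singleton_iff.1 hg.1.2
  have hgb : Commute g S.b := Subgroup.mem_centralizer_singleton_iff.1 hg.2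
  show S.s (S.a * S.b * g * (S.a * S.b)⁻¹) = g
  rw [← (hga.mul_right hgb).eq, mul_inv_cancel_right]
  exact hg.1.1

theorem Setup.hgen_mem {p : List ℕ} (hp : p ∈ FixData.hgen) : el S.f p ∈ fixOf (S.rep 2) := by
  have h := List.all_eq_true.1 hgen_fixed p hp
  simp only [Bool.and_eq_true, Nat.blt_eq] at h
  exact S.el_fix h.1.1 h.1.2 (Nat.eq_of_beq_eq_true h.2)

theorem Setup.card_fix_two : Nat.card (fixOf (S.rep 2)) = 3317760 := by
  set K := fixOf (S.rep 2) with hK
  let act : MulAction K Pt := MulAction.compHom Pt (S.π.comp K.subtype)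
  have hok := orb2_ok
  simp only [orbOK, Bool.and_eq_true, List.all_eq_true, Nat.blt_eq] at hok
  have hlt : ∀ x ∈ FixData.fix2.map (fun e => pt e.1), x < 3510 := fun x hx => by
    obtain ⟨e, he, rfl⟩ := List.mem_map.1 hx
    exact (hok.1.2 e he).2
  have hpa : S.ψ (S.rep 2) ptA = ptA := (S.cover (c := 2) cover2_ok _).2
    ⟨opath FixData.fix2 0, List.mem_map.2 ⟨FixData.fix2.getD 0 ([], 0, 0),
      getD_mem_of_lt _ (by rw [orbit_lengths.2.2.1]; norm_num), rfl⟩, by
      rw [ptA, toPt_val a_ok.2.2.2.2.2.2.1, a_ok.2.2.2.2.1]⟩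
  have horb : @MulAction.orbit _ _ act.toSMul ptA = toPt '' {x | x ∈ FixData.fix2.map fun e => pt e.1} := by
    ext i
    constructor
    · rintro ⟨g, rfl⟩
      show S.π g ptA ∈ _
      obtain ⟨p, hp, he⟩ := (S.cover (c := 2) cover2_ok _).1 (S.π_fix g.2 hpa)
      obtain ⟨e, he', rfl⟩ := List.mem_map.1 hp
      exact ⟨pt e.1, List.mem_map.2 ⟨e, he', rfl⟩, by rw [he, toPt_self]⟩
    · rintro ⟨x, hx, rfl⟩
      obtain ⟨e, he, rfl⟩ := List.mem_map.1 hx
      obtain ⟨j, hj, rfl⟩ := List.getElem_of_mem he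
      obtain ⟨g, hg, hgi⟩ := S.exists_orbit orb2_ok (H := K) (fun p hp => S.hgen_mem hD hf hp) j hj
      refine ⟨⟨g, hg⟩, ?_⟩
      show S.π g ptA = _
      rw [a_ok.2.2.2.2.1] at hgi
      rw [ptA, hgi, opath, List.getD_eq_getElem _ _ hj]
  have hst : Nat.card S.L2 = Nat.card (@MulAction.stabilizer _ _ _ act ptA) := by
    refine Nat.card_congr ⟨fun g => ⟨⟨g.1, S.L2_le_fix hD hf g.2⟩, ?_⟩, fun g => ⟨g.1.1, ?_⟩, fun g => rfl,
      fun g => rfl⟩
    · refine S.mem_injective ?_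
      show S.mem (S.π g.1 ptA) = _
      rw [← S.conj, S.mem_pa]
      exact mul_inv_eq_iff_eq_mul.2 (Subgroup.mem_centralizer_singleton_iff.1 g.2.1.2)
    · refine S.fix_two_eq hD hf g.1.2 (mul_inv_eq_iff_eq_mul.1 ?_)
      have h : S.π g.1.1 ptA = ptA := g.2
      rw [← S.mem_pa, S.conj, h]
  have h := (@MulAction.stabilizer _ _ _ act ptA).card_mul_index
  rw [MulAction.index_stabilizer, horb, ncard_toPt_image orbit_lengths.2.2.2.2.2 hlt, List.length_map,
    orbit_lengths.2.2.1, ← hst, S.card_L2 hD hf] at h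
  omega

end Cfsg.Agent.Lib.M22Outer
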