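import Cfsg.Agent.Lib.M22Outer.Tables

/-!
# The 2-group of order 2^18
-/

set_option autoImplicit false

namespace Cfsg.Agent.Lib.M22Outer

open Cfsg.Agent.Lib.CosetTable Cfsg.Agent.Lib.Fischer3T.Triality

theorem bitAt_add_two_pow {k i : ℕ} (hk : k < i) (m : ℕ) : bitAt k (m + 2 ^ i) = bitAt k m := by
  obtain ⟨c, rfl⟩ := Nat.exists_eq_add_of_lt hk
  have h1 : (m + 2 ^ (k + c + 1)) / 2 ^ k = m / 2 ^ k + 2 * 2 ^ c := by
    rw [show 2 ^ (k + c + 1) = (2 * 2 ^ c) * 2 ^ k by ring, Nat.add_mul_div_right _ _ (by positivity)]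
  show Nat.beq ((m + 2 ^ (k + c + 1)) / 2 ^ k % 2) 1 = Nat.beq (m / 2 ^ k % 2) 1
  rw [h1, Nat.add_mul_mod_self_left]

theorem bitAt_of_lt {k m : ℕ} (h : m < 2 ^ k) : bitAt k m = false := by
  show Nat.beq (m / 2 ^ k % 2) 1 = false
  rw [Nat.div_eq_of_lt h]; rfl

theorem bitAt_top {k m : ℕ} (h : m < 2 ^ k) : bitAt k (m + 2 ^ k) = true := by
  show Nat.beq ((m + 2 ^ k) / 2 ^ k % 2) 1 = true
  rw [Nat.add_div_right _ (by positivity), Nat.div_eq_of_lt h]; rfl

theorem relOK_spec {i : ℕ} (hi : i < 17) :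
    (∀ j < i, ∃ w < 2 ^ i, ∀ x ∈ bpts, gI j (gI i x) = gI i (ev i w x)) ∧
    (∃ w < 2 ^ i, ∀ x ∈ bpts, gI i (gI i x) = ev i w x) ∧
    (∃ w < 2 ^ 17, ∀ x ∈ bpts, sI (gI i (sI x)) = ev 17 w x) := by
  have h := List.all_eq_true.1 rel_ok i (List.mem_range.2 hi)
  simp only [relOK, Bool.and_eq_true, List.all_eq_true, List.mem_range, Nat.blt_eq] at h
  exact ⟨fun j hj => ⟨_, (h.1.1 j hj).1, fun x hx => Nat.eq_of_beq_eq_true ((h.1.1 j hj).2 x hx)⟩,
    ⟨_, h.1.2.1, fun x hx => Nat.eq_of_beq_eq_true (h.1.2.2 x hx)⟩,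
    ⟨_, h.2.1, fun x hx => Nat.eq_of_beq_eq_true (h.2.2 x hx)⟩⟩

variable {G : Type*} [Group G] {D : Set G} (S : Setup D)
include S

/-- The group of the first `i` inner elements. -/
def Setup.H (i : ℕ) : Subgroup (MulAut G) := Subgroup.closure {x | ∃ j < i, S.gA j = x}

theorem Setup.gA_mem {i j : ℕ} (h : j < i) : S.gA j ∈ S.H i := Subgroup.subset_closure ⟨j, h, rfl⟩

theorem Setup.H_mono {i j : ℕ} (h : i ≤ j) : S.H i ≤ S.H j :=
  Subgroup.closure_mono fun _ ⟨k, hk, e⟩ => ⟨k, hk.trans_le h, e⟩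

theorem Setup.evA_mem : ∀ (k m : ℕ), S.evA k m ∈ S.H k
  | 0, _ => one_mem _
  | k + 1, m => by
    rw [Setup.evA]
    split
    · exact mul_mem (S.gA_mem (Nat.lt_succ_self k)) (S.H_mono (Nat.le_succ k) (evA_mem k m))
    · exact S.H_mono (Nat.le_succ k) (evA_mem k m)

theorem Setup.evA_add {k i : ℕ} (hk : k ≤ i) (m : ℕ) : S.evA k (m + 2 ^ i) = S.evA k m := by
  induction k with
  | zero => rfl
  | succ k ih => simp only [Setup.evA, ih (by omega), bitAt_add_two_pow (show k < i by omega)]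

theorem Setup.H_le_inner (i : ℕ) : S.H i ≤ (MulAut.conj : G →* MulAut G).range :=
  (Subgroup.closure_le _).2 fun _ ⟨_, _, e⟩ => e ▸ ⟨_, rfl⟩

theorem Setup.gA_mul_gA {i j : ℕ} (hi : i < 17) (hj : j < i) :
    ∃ w ∈ S.H i, S.gA j * S.gA i = S.gA i * w := by
  obtain ⟨w, -, hw⟩ := (relOK_spec hi).1 j hj
  refine ⟨_, S.evA_mem i w, S.ext_bpts fun x hx => ?_⟩
  rw [map_mul, map_mul, Equiv.Perm.mul_apply, Equiv.Perm.mul_apply, S.ψ_gA (hj.trans hi), S.ψ_gA hi,
    S.ψ_gA hi, S.ψ_evA hi.le]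
  exact hw _ hx

theorem Setup.gA_sq {i : ℕ} (hi : i < 17) : S.gA i * S.gA i ∈ S.H i := by
  obtain ⟨w, -, hw⟩ := (relOK_spec hi).2.1
  have : S.gA i * S.gA i = S.evA i w := S.ext_bpts fun x hx => by
    rw [map_mul, Equiv.Perm.mul_apply, S.ψ_gA hi, S.ψ_gA hi, S.ψ_evA hi.le]
    exact hw _ hx
  exact this ▸ S.evA_mem i w

theorem Setup.mem_H_succ {i : ℕ} (hi : i < 17) {x : MulAut G} (hx : x ∈ S.H (i + 1)) :
    x ∈ S.H i ∨ ∃ h ∈ S.H i, x = S.gA i * h := by
  induction hx using Subgroup.closure_induction_left with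
  | one => exact Or.inl (one_mem _)
  | mul_left g hg y _ ih =>
    obtain ⟨j, hj, rfl⟩ := hg
    rcases Nat.lt_succ_iff_lt_or_eq.1 hj with hji | rfl
    · rcases ih with h | ⟨h, hh, rfl⟩
      · exact Or.inl (mul_mem (S.gA_mem hji) h)
      · obtain ⟨w, hw, e⟩ := S.gA_mul_gA hi hji
        exact Or.inr ⟨w * h, mul_mem hw hh, by rw [← mul_assoc, e, mul_assoc]⟩
    · rcases ih with h | ⟨h, hh, rfl⟩
      · exact Or.inr ⟨y, h, rfl⟩
      · exact Or.inl (by rw [← mul_assoc]; exact mul_mem (S.gA_sq hi) hh)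
  | inv_mul_cancel g hg y _ ih =>
    obtain ⟨j, hj, rfl⟩ := hg
    rcases Nat.lt_succ_iff_lt_or_eq.1 hj with hji | rfl
    · rcases ih with h | ⟨h, hh, rfl⟩
      · exact Or.inl (mul_mem (inv_mem (S.gA_mem hji)) h)
      · obtain ⟨w, hw, e⟩ := S.gA_mul_gA hi hji
        refine Or.inr ⟨w⁻¹ * h, mul_mem (inv_mem hw) hh, ?_⟩
        rw [← mul_assoc, ← mul_assoc, inv_mul_eq_iff_eq_mul.2 (show S.gA i = S.gA j * (S.gA i * w⁻¹) by
          rw [← mul_assoc, e]; group)]
    · rcases ih with h | ⟨h, hh, rfl⟩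
      · exact Or.inr ⟨(S.gA j * S.gA j)⁻¹ * y, mul_mem (inv_mem (S.gA_sq hi)) h, by group⟩
      · exact Or.inl (by rwa [inv_mul_cancel_left])

theorem Setup.exists_evA : ∀ {i : ℕ}, i ≤ 17 → ∀ x ∈ S.H i, ∃ m < 2 ^ i, S.evA i m = x
  | 0, _, x, hx => by
    have : S.H 0 = ⊥ := by simp [Setup.H]
    rw [this, Subgroup.mem_bot] at hx
    exact ⟨0, by norm_num, by rw [hx]; rfl⟩
  | i + 1, hi, x, hx => by
    rcases S.mem_H_succ (by omega) hx with h | ⟨h, hh, rfl⟩
    · obtain ⟨m, hm, rfl⟩ := exists_evA (by omega) x h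
      refine ⟨m, hm.trans (by rw [pow_succ]; omega), ?_⟩
      rw [Setup.evA, bitAt_of_lt hm]; simp
    · obtain ⟨m, hm, rfl⟩ := exists_evA (by omega) h hh
      refine ⟨m + 2 ^ i, by rw [pow_succ]; omega, ?_⟩
      rw [Setup.evA, bitAt_top hm, if_pos rfl, S.evA_add le_rfl]

theorem Setup.gA_notMem [Finite G] {i : ℕ} (hi : i < 17) : S.gA i ∉ S.H i := by
  have h := List.all_eq_true.1 sep_ok i (List.mem_range.2 hi)
  simp only [sepOK, Bool.and_eq_true, List.all_eq_true, List.mem_range, Nat.blt_eq, Bool.not_eq_true',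
    List.contains_iff_mem, ← Bool.not_eq_true] at h
  obtain ⟨⟨⟨hlt, hmem⟩, hcl⟩, hnot⟩ := h
  set xs := (Data.sep.getD i ([], [])).1
  set O := (Data.sep.getD i ([], [])).2
  let act : MulAut G → ℕ → ℕ := fun t x => ((S.ψ t (toPt x) : Pt) : ℕ)
  have hact : ∀ t u : MulAut G, ∀ x, act (t * u) x = act t (act u x) := fun t u x => by
    show ((S.ψ (t * u) (toPt x) : Pt) : ℕ) = ((S.ψ t (toPt ((S.ψ u (toPt x) : Pt) : ℕ)) : Pt) : ℕ)
    rw [toPt_self, map_mul, Equiv.Perm.mul_apply]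
  have hg : ∀ j < 17, ∀ x < 3510, act (S.gA j) x = gI j x := fun j hj x hx => by
    show ((S.ψ (S.gA j) (toPt x) : Pt) : ℕ) = _
    rw [S.ψ_gA hj, toPt_val hx]
  have : Finite (MulAut G) := Finite.of_injective (fun φ => (φ : G → G)) DFunLike.coe_injective
  have key : ∀ t ∈ S.H i, xs.map (act t) ∈ O := by
    intro t ht
    rw [Setup.H, ← Subgroup.mem_toSubmonoid, Subgroup.closure_toSubmonoid_of_finite] at ht
    induction ht using Submonoid.closure_induction_left with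
    | one =>
      have : xs.map (act 1) = xs := by
        refine (List.map_congr_left fun x hx => ?_).trans (List.map_id _)
        show ((S.ψ 1 (toPt x) : Pt) : ℕ) = id x
        rw [map_one, Equiv.Perm.one_apply, toPt_val (hlt x hx)]; rfl
      rw [this]; exact hmem
    | mul_left g hg' y _ ih =>
      obtain ⟨j, hj, rfl⟩ := hg'
      have e : xs.map (act (S.gA j * y)) = (xs.map (act y)).map (gI j) := by
        rw [List.map_map]
        refine List.map_congr_left fun x hx => ?_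
        rw [hact, Function.comp_apply, hg j (hj.trans hi) _ (lt_of_lt_of_eq (Fin.isLt _) n_eq)]
      rw [e]
      exact hcl j hj _ ih
  intro hm
  apply hnot
  have := key _ hm
  rwa [List.map_congr_left fun x hx => hg i hi x (hlt x hx)] at this

theorem Setup.card_H [Finite G] : ∀ {i : ℕ}, i ≤ 17 → Nat.card (S.H i) = 2 ^ i
  | 0, _ => by simp [Setup.H]
  | i + 1, hi => by
    have : Finite (MulAut G) := Finite.of_injective (fun φ => (φ : G → G)) DFunLike.coe_injective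
    have ih := card_H (i := i) (by omega)
    have hle : S.H i ≤ S.H (i + 1) := S.H_mono (Nat.le_succ i)
    have e : (S.H (i + 1) : Set (MulAut G)) = (S.H i : Set (MulAut G)) ∪ (S.gA i * ·) '' S.H i := by
      ext x
      constructor
      · intro hx
        rcases S.mem_H_succ (by omega) hx with h | ⟨h, hh, rfl⟩
        · exact Or.inl h
        · exact Or.inr ⟨h, hh, rfl⟩
      · rintro (h | ⟨h, hh, rfl⟩)
        · exact hle h
        · exact mul_mem (S.gA_mem (Nat.lt_succ_self i)) (hle hh)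
    have hd : Disjoint (S.H i : Set (MulAut G)) ((S.gA i * ·) '' S.H i) := by
      rw [Set.disjoint_left]
      rintro x hx ⟨h, hh, rfl⟩
      exact S.gA_notMem (show i < 17 by omega) (by simpa using mul_mem hx (inv_mem hh))
    rw [← SetLike.coe_sort_coe, Nat.card_coe_set_eq, e, Set.ncard_union_eq hd, Set.ncard_image_of_injective _ (mul_right_injective _),
      ← Nat.card_coe_set_eq, SetLike.coe_sort_coe, ih, pow_succ]
    omega

theorem Setup.s_conj {x : MulAut G} (hx : x ∈ S.H 17) : S.s * x * S.s ∈ S.H 17 := by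
  induction hx using Subgroup.closure_induction with
  | mem y hy =>
    obtain ⟨i, hi, rfl⟩ := hy
    obtain ⟨w, -, hw⟩ := (relOK_spec hi).2.2
    have : S.s * S.gA i * S.s = S.evA 17 w := S.ext_bpts fun x hx => by
      rw [map_mul, map_mul, Equiv.Perm.mul_apply, Equiv.Perm.mul_apply, S.ψ_s_val, S.ψ_gA hi, S.ψ_s_val,
        S.ψ_evA le_rfl]
      exact hw _ hx
    exact this ▸ S.evA_mem 17 w
  | one => rw [mul_one, S.s_mul_self]; exact one_mem _
  | mul y z _ _ hy hz =>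
    have : S.s * (y * z) * S.s = (S.s * y * S.s) * (S.s * z * S.s) := by
      simp only [← mul_assoc, mul_assoc _ S.s S.s, S.s_mul_self, mul_one]
    rw [this]; exact mul_mem hy hz
  | inv y _ hy =>
    have hs : S.s⁻¹ = S.s := inv_eq_of_mul_eq_one_right S.s_mul_self
    have : S.s * y⁻¹ * S.s = (S.s * y * S.s)⁻¹ := by rw [mul_inv_rev, mul_inv_rev, hs, mul_assoc]
    rw [this]; exact inv_mem hy

/-- The 2-group. -/
def Setup.P : Subgroup (MulAut G) where
  carrier := {x | x ∈ S.H 17 ∨ x * S.s ∈ S.H 17}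
  one_mem' := Or.inl (one_mem _)
  mul_mem' := by
    have hss := S.s_mul_self
    rintro x y (hx | hx) (hy | hy)
    · exact Or.inl (mul_mem hx hy)
    · exact Or.inr (by rw [mul_assoc]; exact mul_mem hx hy)
    · refine Or.inr ?_
      have : x * y * S.s = (x * S.s) * (S.s * y * S.s) := by
        simp only [← mul_assoc, mul_assoc _ S.s S.s, hss, mul_one]
      rw [this]; exact mul_mem hx (S.s_conj hy)
    · refine Or.inl ?_
      have : x * y = (x * S.s) * (S.s * (y * S.s) * S.s) := by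
        simp only [← mul_assoc, mul_assoc _ S.s S.s, hss, mul_one]
      rw [this]; exact mul_mem hx (S.s_conj hy)
  inv_mem' := by
    have hs : S.s⁻¹ = S.s := inv_eq_of_mul_eq_one_right S.s_mul_self
    rintro x (hx | hx)
    · exact Or.inl (inv_mem hx)
    · refine Or.inr ?_
      have : x⁻¹ * S.s = S.s * (x * S.s)⁻¹ * S.s := by
        rw [mul_inv_rev, ← mul_assoc S.s S.s⁻¹, mul_inv_cancel, one_mul]
      rw [this]; exact S.s_conj (inv_mem hx)

theorem Setup.mem_P {x : MulAut G} : x ∈ S.P ↔ x ∈ S.H 17 ∨ x * S.s ∈ S.H 17 := Iff.rfl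

theorem Setup.card_P [Finite G] (hs : S.s ∉ (MulAut.conj : G →* MulAut G).range) : Nat.card S.P = 2 ^ 18 := by
  have : Finite (MulAut G) := Finite.of_injective (fun φ => (φ : G → G)) DFunLike.coe_injective
  have hss := S.s_mul_self
  have e : (S.P : Set (MulAut G)) = (S.H 17 : Set (MulAut G)) ∪ (· * S.s) '' S.H 17 := by
    ext x
    constructor
    · rintro (h | h)
      · exact Or.inl h
      · exact Or.inr ⟨_, h, by show x * S.s * S.s = x; rw [mul_assoc, hss, mul_one]⟩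
    · rintro (h | ⟨h, hh, rfl⟩)
      · exact Or.inl h
      · exact Or.inr (by show h * S.s * S.s ∈ _; rw [mul_assoc, hss, mul_one]; exact hh)
  have hd : Disjoint (S.H 17 : Set (MulAut G)) ((· * S.s) '' S.H 17) := by
    rw [Set.disjoint_left]
    rintro x hx ⟨h, hh, rfl⟩
    exact hs (S.H_le_inner 17 (by simpa using mul_mem (inv_mem hh) hx))
  have hH := S.card_H (i := 17) le_rfl
  rw [← SetLike.coe_sort_coe, Nat.card_coe_set_eq, e, Set.ncard_union_eq hd,
    Set.ncard_image_of_injective _ (mul_left_injective _), ← Nat.card_coe_set_eq, SetLike.coe_sort_coe, hH,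
    ← two_mul, ← pow_succ']

end Cfsg.Agent.Lib.M22Outer
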